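import Cfsg.Agent.Lib.SLThree78.Singer.Count
import Cfsg.Agent.Lib.SLThree78.Frame

/-!
Overgroups of the determinant-one normaliser of a cubic field: first facts and duality.
-/

set_option autoImplicit false
set_option linter.unusedSectionVars false

namespace Cfsg.Agent.Lib.SLThree78.Singer

open Matrix
open Cfsg.Agent.Lib.SubfieldMax (InTr)

variable {F : Type*} [Field F] [Fintype F] {K : Subalgebra F (Matrix (Fin 3) (Fin 3) F)}
  {H : Subgroup (GL (Fin 3) F)}

local notation "V₃" => (Fin 3 → F)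
local notation "M₃" => Matrix (Fin 3) (Fin 3) F
local notation "q" => Fintype.card F
local notation "SL₃F" => Cfsg.Geo.specialLinear (Fin 3) F

/-- A group between the determinant-one normaliser and the special linear group. -/
structure Over (K : Subalgebra F M₃) (H : Subgroup (GL (Fin 3) F)) : Prop where
  isField : Cfsg.Geo.IsFieldSubalgebra 3 K
  le : H ≤ SL₃F
  contains : Cfsg.Geo.subalgebraNormalizer K ⊓ SL₃F ≤ H

theorem det_of_mem {g : GL (Fin 3) F} (hg : g ∈ SL₃F) : (g : M₃).det = 1 := by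
  rw [← Matrix.GeneralLinearGroup.val_det_apply, show Matrix.GeneralLinearGroup.det g = 1 from hg, Units.val_one]

variable (h : Over K H)
include h

theorem Over.unit_mem {g : GL (Fin 3) F} (hg : g ∈ KU h.isField) (hd : g ∈ SL₃F) : g ∈ H :=
  h.contains ⟨unit_mem_normalizer h.isField hg, hd⟩

theorem Over.same_move {z z' : V₃} (hs : Same h.isField z z') :
    ∃ g ∈ H, (g : M₃) ∈ K ∧ ∃ c : F, c ≠ 0 ∧ (g : M₃) *ᵥ z = c • z' := by
  obtain ⟨g, ⟨hgK, μ, hμ⟩, rfl⟩ := hs
  have hm : sc μ⁻¹ * g ∈ KU h.isField := mul_mem (sc_mem_G0 h.isField _).1 hgK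
  refine ⟨sc μ⁻¹ * g, h.unit_mem hm ?_, hm, (μ⁻¹ : Fˣ), Units.ne_zero _, ?_⟩
  · show Matrix.GeneralLinearGroup.det (sc μ⁻¹ * g) = 1
    have e : Matrix.GeneralLinearGroup.det (sc (μ⁻¹) : GL (Fin 3) F) = μ⁻¹ ^ 3 := by
      ext
      rw [Matrix.GeneralLinearGroup.val_det_apply, sc_coe, det_smul, det_one, mul_one, Fintype.card_fin,
        Units.val_pow_eq_pow_val]
    have hμ' : μ ^ 3 = Matrix.GeneralLinearGroup.det g := hμ
    rw [map_mul, e, ← hμ', inv_pow, inv_mul_cancel]
  · rw [Units.val_mul, sc_coe, smul_mul_assoc, one_mul, smul_mulVec]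

theorem Over.exists_nonscalar : ∃ g ∈ H, (g : M₃) ∈ K ∧ NS (g : M₃) := by
  classical
  set d : KU h.isField →* Fˣ := Matrix.GeneralLinearGroup.det.comp (KU h.isField).subtype with hd
  by_contra hno
  push Not at hno
  have hsub : ∀ g ∈ d.ker, ∃ c : Fˣ, (g : GL (Fin 3) F) = sc c ∧ c ^ 3 = 1 := by
    intro g hg
    have hd1 : (g : GL (Fin 3) F) ∈ SL₃F := hg
    have hn := hno _ (h.unit_mem g.2 hd1) g.2
    simp only [NS, not_forall, not_not] at hn
    obtain ⟨c, hc⟩ := hn
    have hdet := det_of_mem hd1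
    rw [hc, det_smul, det_one, mul_one, Fintype.card_fin] at hdet
    refine ⟨Units.mk0 c (fun e => by simp [e] at hdet), Units.ext (by rw [sc_coe, Units.val_mk0, hc]),
      Units.ext (by rw [Units.val_pow_eq_pow_val, Units.val_mk0, hdet, Units.val_one])⟩
  choose f hf hf3 using hsub
  have hk : Nat.card d.ker ≤ 3 := by
    refine (Nat.card_le_card_of_injective (fun g : d.ker => (⟨f g g.2, hf3 g g.2⟩ : rootsOfUnity 3 F))
      fun a b e => ?_).trans (card_rootsOfUnity F 3)
    refine Subtype.ext (Subtype.ext ?_)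
    rw [hf a a.2, hf b b.2]
    exact congrArg sc (congrArg Subtype.val e)
  have hc := Subgroup.card_mul_index d.ker
  rw [Subgroup.index_ker] at hc
  have hr : Nat.card d.range ≤ q - 1 := by
    refine (Subgroup.card_le_card_group _).trans ?_
    rw [Nat.card_eq_fintype_card, Fintype.card_units]
  have hle := (Nat.mul_le_mul hk hr)
  rw [hc] at hle
  obtain ⟨e, -⟩ := exists_orbit_equiv h.isField (show (Pi.single 0 1 : V₃) ≠ 0 by simp)
  rw [Nat.card_congr e] at hle
  simp only [Nat.card_eq_fintype_card] at hle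
  rw [Fintype.card_subtype_compl, Fintype.card_subtype_eq, Fintype.card_fun, Fintype.card_fin] at hle
  have hq : 1 < q := Fintype.one_lt_card
  have : q * q ≥ 2 * q := by nlinarith
  have h3 : q ^ 3 = q * q * q := by ring
  have : q * q * q ≥ 4 * q := by nlinarith
  omega

theorem Over.irreducible (W : Submodule F V₃) (h0 : W ≠ ⊥)
    (hW : ∀ g ∈ H, ∀ x ∈ W, (g : M₃) *ᵥ x ∈ W) : W = ⊤ := by
  obtain ⟨g, hg, hgK, hns⟩ := h.exists_nonscalar
  have hd := Submodule.finrank_le W
  rw [Module.finrank_fin_fun] at hd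
  by_contra h1
  have hlt : Module.finrank F W < 3 := by
    have := Submodule.finrank_lt (s := W) h1
    rwa [Module.finrank_fin_fun] at this
  have hpos : 0 < Module.finrank F W := by
    rw [pos_iff_ne_zero]; exact fun e => h0 (Submodule.finrank_eq_zero.mp e)
  rcases (by omega : Module.finrank F W = 2 ∨ Module.finrank F W = 1) with h2 | h2
  · obtain ⟨x, hx, hx'⟩ := not_stable_plane h.isField h2 hgK hns
    exact hx' (hW g hg x hx)
  · obtain ⟨⟨x, hx⟩, hx0, hgen⟩ := finrank_eq_one_iff'.mp h2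
    obtain ⟨c, hc⟩ := hgen ⟨_, hW g hg x hx⟩
    have hx0' : x ≠ 0 := fun e => hx0 (Subtype.ext e)
    exact hns c (eq_of_mulVec h.isField hgK (scalar_mem h.isField c) hx0' (by
      rw [smul_mulVec, one_mulVec]; exact (congrArg Subtype.val hc).symm))

theorem Over.eq_SL_of_fullC {v : V₃} (hv0 : v ≠ 0) (hv : FullC H v) : H = SL₃F :=
  SLThree78.eq_SL_of_fullC h.le h.irreducible hv0 hv

omit h

theorem all_same (hK : Cfsg.Geo.IsFieldSubalgebra 3 K) (hq : q % 3 ≠ 1) (x y : V₃) (hx : x ≠ 0) (hy : y ≠ 0) :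
    Same hK x y := by
  obtain ⟨cls, hcls, hQ, -⟩ := class_map hK
  rcases hQ with h1 | h3
  · haveI := (Nat.card_eq_one_iff_unique.mp h1).1
    exact (hcls x y hx hy).mp (Subsingleton.elim _ _)
  · exfalso
    have hd := Subgroup.card_quotient_dvd_card (powMonoidHom 3 : Fˣ →* Fˣ).range
    classical
    rw [h3, Nat.card_eq_fintype_card, Fintype.card_units] at hd
    have hq1 : 1 < q := Fintype.one_lt_card
    omega

/-- Inverse transpose. -/
def tinv : GL (Fin 3) F ≃* GL (Fin 3) F where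
  toFun g := ⟨((g⁻¹ : GL (Fin 3) F) : M₃)ᵀ, (g : M₃)ᵀ, by rw [← transpose_mul, Units.mul_inv, transpose_one],
    by rw [← transpose_mul, Units.inv_mul, transpose_one]⟩
  invFun g := ⟨((g⁻¹ : GL (Fin 3) F) : M₃)ᵀ, (g : M₃)ᵀ, by rw [← transpose_mul, Units.mul_inv, transpose_one],
    by rw [← transpose_mul, Units.inv_mul, transpose_one]⟩
  left_inv g := Units.ext (show ((g : M₃)ᵀ)ᵀ = g from transpose_transpose _)
  right_inv g := Units.ext (show ((g : M₃)ᵀ)ᵀ = g from transpose_transpose _)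
  map_mul' g g' := Units.ext (by
    show (((g * g')⁻¹ : GL (Fin 3) F) : M₃)ᵀ = ((g⁻¹ : GL (Fin 3) F) : M₃)ᵀ * ((g'⁻¹ : GL (Fin 3) F) : M₃)ᵀ
    rw [_root_.mul_inv_rev, Units.val_mul, transpose_mul])

theorem tinv_coe (g : GL (Fin 3) F) : (tinv g : M₃) = ((g⁻¹ : GL (Fin 3) F) : M₃)ᵀ := rfl

theorem tinv_tinv (g : GL (Fin 3) F) : tinv (tinv g) = g := tinv.left_inv g

theorem tinv_mem_SL {g : GL (Fin 3) F} (hg : g ∈ SL₃F) : tinv g ∈ SL₃F := by
  have h1 := det_of_mem (inv_mem hg)
  show Matrix.GeneralLinearGroup.det (tinv g) = 1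
  ext
  rw [Matrix.GeneralLinearGroup.val_det_apply, tinv_coe, det_transpose, h1, Units.val_one]

/-- The transposed algebra. -/
def Kt (K : Subalgebra F M₃) (hK : Cfsg.Geo.IsFieldSubalgebra 3 K) : Subalgebra F M₃ where
  carrier := {A | Aᵀ ∈ K}
  mul_mem' := fun {A B} hA hB => by
    show (A * B)ᵀ ∈ K
    rw [transpose_mul]; exact K.mul_mem hB hA
  add_mem' := fun {A B} hA hB => by
    show (A + B)ᵀ ∈ K
    rw [transpose_add]; exact K.add_mem hA hB
  algebraMap_mem' c := by
    show (algebraMap F M₃ c)ᵀ ∈ K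
    rw [Algebra.algebraMap_eq_smul_one, transpose_smul, transpose_one]
    exact K.smul_mem K.one_mem c

theorem mem_Kt (hK : Cfsg.Geo.IsFieldSubalgebra 3 K) {A : M₃} : A ∈ Kt K hK ↔ Aᵀ ∈ K := Iff.rfl

theorem isField_Kt (hK : Cfsg.Geo.IsFieldSubalgebra 3 K) : Cfsg.Geo.IsFieldSubalgebra 3 (Kt K hK) where
  comm A hA B hB := transpose_injective (by rw [transpose_mul, transpose_mul]; exact hK.comm _ hB _ hA)
  inv A hA h0 := by
    obtain ⟨B, hB, e⟩ := hK.inv _ hA (fun e => h0 (transpose_injective (by rw [e, transpose_zero])))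
    refine ⟨Bᵀ, (mem_Kt hK).mpr (by rwa [transpose_transpose]), transpose_injective ?_⟩
    rw [transpose_mul, transpose_transpose, transpose_one, hK.comm _ hB _ hA, e]
  finrank_eq := by
    refine Eq.trans ?_ hK.finrank_eq
    exact LinearEquiv.finrank_eq
      { toFun := fun A => ⟨(A : M₃)ᵀ, A.2⟩
        invFun := fun A => ⟨(A : M₃)ᵀ, by show ((A : M₃)ᵀ)ᵀ ∈ K; rw [transpose_transpose]; exact A.2⟩
        map_add' := fun A B => Subtype.ext (transpose_add _ _)
        map_smul' := fun c A => Subtype.ext (transpose_smul _ _)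
        left_inv := fun A => Subtype.ext (transpose_transpose _)
        right_inv := fun A => Subtype.ext (transpose_transpose _) }

theorem tinv_mem_normalizer (hK : Cfsg.Geo.IsFieldSubalgebra 3 K) {g : GL (Fin 3) F} :
    tinv g ∈ Cfsg.Geo.subalgebraNormalizer (Kt K hK) ↔ g ∈ Cfsg.Geo.subalgebraNormalizer K := by
  have e : ∀ k : M₃, ((tinv g : M₃) * k * (((tinv g)⁻¹ : GL (Fin 3) F) : M₃))ᵀ =
      (g : M₃) * kᵀ * ((g⁻¹ : GL (Fin 3) F) : M₃) := by
    intro k
    rw [← map_inv, tinv_coe, tinv_coe, inv_inv, transpose_mul, transpose_mul, transpose_transpose,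
      transpose_transpose, mul_assoc]
  constructor
  · intro hg k
    have := hg kᵀ
    rwa [mem_Kt, mem_Kt, e, transpose_transpose] at this
  · intro hg k
    rw [mem_Kt, mem_Kt, e]
    exact hg _

theorem Over.dual (h : Over K H) : Over (Kt K h.isField) (H.map tinv.toMonoidHom) where
  isField := isField_Kt h.isField
  le := by
    rintro _ ⟨g, hg, rfl⟩
    exact tinv_mem_SL (h.le hg)
  contains g hg := by
    refine ⟨tinv g, h.contains ⟨?_, tinv_mem_SL hg.2⟩, tinv_tinv g⟩
    show tinv g ∈ Cfsg.Geo.subalgebraNormalizer K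
    rw [← tinv_mem_normalizer h.isField, tinv_tinv]
    exact hg.1

theorem Over.of_dual (h : Over K H)
    (hd : H.map tinv.toMonoidHom = SL₃F ∨
      H.map tinv.toMonoidHom ≤ Cfsg.Geo.subalgebraNormalizer (Kt K h.isField)) :
    H = SL₃F ∨ H ≤ Cfsg.Geo.subalgebraNormalizer K := by
  rcases hd with hd | hd
  · refine Or.inl (le_antisymm h.le fun g hg => ?_)
    obtain ⟨g', hg', e⟩ := hd.symm ▸ tinv_mem_SL hg
    exact tinv.injective e ▸ hg'
  · exact Or.inr fun g hg => (tinv_mem_normalizer h.isField).mp (hd ⟨g, hg, rfl⟩)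

theorem InTr.dual {v a : V₃} (ht : InTr H v a) : InTr (H.map tinv.toMonoidHom) a v := by
  obtain ⟨hd, hm⟩ := ht
  have hd' : (-v) ⬝ᵥ a = 0 := by rw [neg_dotProduct, dotProduct_comm, hd, neg_zero]
  have : InTr (H.map tinv.toMonoidHom) a (-v) := by
    refine ⟨hd', _, hm, Units.ext ?_⟩
    show (1 - vecMulVec v a)ᵀ = 1 + vecMulVec a (-v)
    rw [transpose_sub, transpose_one, transpose_vecMulVec, vecMulVec_neg, sub_eq_add_neg]
  exact this.neg.congr rfl (neg_neg v)

end Cfsg.Agent.Lib.SLThree78.Singer
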