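import Cfsg.Agent.Lib.SLThree78.Singer.Setup

/-!
The numbers of points of the classes on a line.
-/

set_option autoImplicit false
set_option linter.unusedSectionVars false

namespace Cfsg.Agent.Lib.SLThree78.Singer

open Matrix Finset

variable {F : Type*} [Field F] [Fintype F] {K : Subalgebra F (Matrix (Fin 3) (Fin 3) F)}
  (hK : Cfsg.Geo.IsFieldSubalgebra 3 K)

local notation "V₃" => (Fin 3 → F)
local notation "M₃" => Matrix (Fin 3) (Fin 3) F
local notation "q" => Fintype.card F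

/-- The nonzero vectors of `W` of the class of `z`. -/
noncomputable def cl (W : Submodule F V₃) (z : V₃) : Finset V₃ := by
  classical exact univ.filter fun x => x ∈ W ∧ x ≠ 0 ∧ Same hK z x

/-- The number of points of `W` in the class of `z`. -/
noncomputable def N (W : Submodule F V₃) (z : V₃) : ℕ := by
  classical exact ((cl hK W z).image fun x => Submodule.span F ({x} : Set V₃)).card

theorem mem_cl {W : Submodule F V₃} {z x : V₃} : x ∈ cl hK W z ↔ x ∈ W ∧ x ≠ 0 ∧ Same hK z x := by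
  classical simp [cl]

theorem cl_congr {W : Submodule F V₃} {z z' : V₃} (h : Same hK z z') : cl hK W z = cl hK W z' := by
  ext x
  rw [mem_cl, mem_cl]
  exact ⟨fun ⟨a, b, c⟩ => ⟨a, b, (h.symm hK).trans hK c⟩, fun ⟨a, b, c⟩ => ⟨a, b, h.trans hK c⟩⟩

theorem card_cl (W : Submodule F V₃) (z : V₃) : (cl hK W z).card = (q - 1) * N hK W z := by
  classical
  rw [card_eq_sum_card_image (fun x => Submodule.span F ({x} : Set V₃)) (cl hK W z),
    sum_const_nat (m := q - 1), N, mul_comm]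
  intro L hL
  obtain ⟨x, hx, rfl⟩ := mem_image.mp hL
  obtain ⟨hxW, hx0, hxs⟩ := (mem_cl hK).mp hx
  have e : ((cl hK W z).filter fun y => Submodule.span F ({y} : Set V₃) = Submodule.span F {x}) =
      (univ.erase (0 : F)).image fun c => c • x := by
    ext y
    simp only [mem_filter, mem_image, mem_erase, mem_univ, and_true, mem_cl]
    constructor
    · rintro ⟨⟨-, hy0, -⟩, he⟩
      obtain ⟨c, rfl⟩ := Submodule.mem_span_singleton.mp (he ▸ Submodule.mem_span_singleton_self y)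
      exact ⟨c, fun hc => hy0 (by rw [hc, zero_smul]), rfl⟩
    · rintro ⟨c, hc, rfl⟩
      exact ⟨⟨W.smul_mem c hxW, smul_ne_zero hc hx0, hxs.trans hK (Same.smul hK hc)⟩,
        Submodule.span_singleton_smul_eq (IsUnit.mk0 c hc) x⟩
  rw [e, card_image_of_injective _ (smul_left_injective F hx0), card_erase_of_mem (mem_univ _), card_univ]

theorem exists_points {W : Submodule F V₃} {z : V₃} {k : ℕ} (h : k ≤ N hK W z) :
    ∃ s : Fin k → V₃, (∀ i, s i ∈ cl hK W z) ∧ ∀ i j, i ≠ j → s j ∉ Submodule.span F ({s i} : Set V₃) := by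
  classical
  have hc : ∀ L : ((cl hK W z).image fun x => Submodule.span F ({x} : Set V₃)),
      ∃ x ∈ cl hK W z, Submodule.span F ({x} : Set V₃) = L.1 := fun L => mem_image.mp L.2
  choose f hf1 hf2 using hc
  obtain ⟨emb⟩ : Nonempty (Fin k ↪ ((cl hK W z).image fun x => Submodule.span F ({x} : Set V₃))) :=
    Function.Embedding.nonempty_of_card_le (by rw [Fintype.card_fin, Fintype.card_coe]; exact h)
  refine ⟨fun i => f (emb i), fun i => hf1 _, fun i j hij hm => hij (emb.injective (Subtype.ext ?_))⟩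
  obtain ⟨c, hc⟩ := Submodule.mem_span_singleton.mp hm
  simp only at hc
  have hc0 : c ≠ 0 := fun e => ((mem_cl hK).mp (hf1 (emb j))).2.1 (by rw [← hc, e, zero_smul])
  rw [← hf2, ← hf2, ← hc, Submodule.span_singleton_smul_eq (IsUnit.mk0 c hc0)]

theorem not_zero_same {z : V₃} (hz : z ≠ 0) : ¬ Same hK z 0 := fun ⟨g, hg, e⟩ =>
  ne_zero_vec hK (A := (g : M₃)) hg.1 g.ne_zero hz e

theorem class_map : ∃ cls : V₃ → Fˣ ⧸ (powMonoidHom 3 : Fˣ →* Fˣ).range,
    (∀ x y, x ≠ 0 → y ≠ 0 → (cls x = cls y ↔ Same hK x y)) ∧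
      (Nat.card (Fˣ ⧸ (powMonoidHom 3 : Fˣ →* Fˣ).range) = 1 ∨
        Nat.card (Fˣ ⧸ (powMonoidHom 3 : Fˣ →* Fˣ).range) = 3) ∧
      ((∃ x y, x ≠ 0 ∧ y ≠ 0 ∧ ¬ Same hK x y) → 3 * Nat.card (G0 hK) = q ^ 3 - 1) := by
  classical
  set R := (powMonoidHom 3 : Fˣ →* Fˣ).range with hR
  let z : V₃ := Pi.single 0 1
  have hz : z ≠ 0 := fun e => by simpa [z] using congrFun e 0
  obtain ⟨e, he⟩ := exists_orbit_equiv hK hz
  let φ : KU hK →* Fˣ ⧸ R :=
    (QuotientGroup.mk' R).comp ((Matrix.GeneralLinearGroup.det).comp (KU hK).subtype)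
  have hker : φ.ker = (G0 hK).subgroupOf (KU hK) := by
    ext g
    rw [MonoidHom.mem_ker, Subgroup.mem_subgroupOf]
    show ((Matrix.GeneralLinearGroup.det (g : GL (Fin 3) F) : Fˣ) : Fˣ ⧸ R) = 1 ↔ _
    rw [QuotientGroup.eq_one_iff]
    exact ⟨fun h => ⟨g.2, h⟩, fun h => h.2⟩
  let cls : V₃ → Fˣ ⧸ R := fun x => if hx : x = 0 then 1 else φ (e.symm ⟨x, hx⟩)
  have hcls : ∀ x y, x ≠ 0 → y ≠ 0 → (cls x = cls y ↔ Same hK x y) := by
    intro x y hx hy
    simp only [cls, dif_neg hx, dif_neg hy]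
    set a := e.symm ⟨x, hx⟩
    set b := e.symm ⟨y, hy⟩
    have hax : ((a : GL (Fin 3) F) : M₃) *ᵥ z = x := by rw [← he, Equiv.apply_symm_apply]
    have hby : ((b : GL (Fin 3) F) : M₃) *ᵥ z = y := by rw [← he, Equiv.apply_symm_apply]
    constructor
    · intro h
      have hm : b * a⁻¹ ∈ φ.ker := by rw [MonoidHom.mem_ker, map_mul, map_inv, h, mul_inv_cancel]
      rw [hker, Subgroup.mem_subgroupOf] at hm
      refine ⟨_, hm, ?_⟩
      rw [← hax, mulVec_mulVec, ← Units.val_mul, Subgroup.coe_mul, Subgroup.coe_inv, inv_mul_cancel_right, hby]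
    · rintro ⟨g, hg, hgx⟩
      have hb : b = ⟨g, hg.1⟩ * a := Subtype.ext (Units.ext (eq_of_mulVec hK b.2
        (K.mul_mem (x := (g : M₃)) hg.1 a.2) hz (by show _ = ((g : M₃) * ((a : GL (Fin 3) F) : M₃)) *ᵥ z; rw [hby, ← mulVec_mulVec, hax, hgx])))
      have hm : (⟨g, hg.1⟩ : KU hK) ∈ φ.ker := by rw [hker, Subgroup.mem_subgroupOf]; exact hg
      rw [hb, map_mul, MonoidHom.mem_ker.mp hm, one_mul]
  have hidx : Nat.card (Fˣ ⧸ R) = 1 ∨ Nat.card (Fˣ ⧸ R) = 3 := by
    have e1 := Subgroup.card_mul_index (powMonoidHom 3 : Fˣ →* Fˣ).ker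
    rw [Subgroup.index_ker] at e1
    have e2 := Subgroup.card_mul_index R
    have hpos : 0 < Nat.card R := Nat.card_pos
    have hk : Nat.card (Fˣ ⧸ R) = Nat.card (powMonoidHom 3 : Fˣ →* Fˣ).ker := by
      rw [← Subgroup.index_eq_card]
      exact Nat.eq_of_mul_eq_mul_left hpos (by rw [e2, ← e1, mul_comm])
    have h3 : Nat.card (powMonoidHom 3 : Fˣ →* Fˣ).ker ≤ 3 := by
      rw [show (powMonoidHom 3 : Fˣ →* Fˣ).ker = rootsOfUnity 3 F by ext g; simp [mem_rootsOfUnity]]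
      exact card_rootsOfUnity F 3
    have h2 : Nat.card (powMonoidHom 3 : Fˣ →* Fˣ).ker ≠ 2 := fun h => by
      obtain ⟨g, hg⟩ := exists_prime_orderOf_dvd_card' (G := (powMonoidHom 3 : Fˣ →* Fˣ).ker) 2 (by rw [h])
      have hd := orderOf_dvd_of_pow_eq_one (show g ^ 3 = 1 from Subtype.ext g.2)
      rw [hg] at hd
      omega
    have : 0 < Nat.card (powMonoidHom 3 : Fˣ →* Fˣ).ker := Nat.card_pos
    omega
  refine ⟨cls, hcls, hidx, ?_⟩
  rintro ⟨x, y, hx, hy, hne⟩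
  have hsurj : Function.Surjective φ := by
    have hne1 : φ.range ≠ ⊥ := fun hb => hne ((hcls x y hx hy).mp (by
      simp only [cls, dif_neg hx, dif_neg hy]
      have : ∀ a, φ a = 1 := fun a => by
        have : φ a ∈ φ.range := ⟨a, rfl⟩
        rwa [hb, Subgroup.mem_bot] at this
      rw [this, this]))
    rcases hidx with h1 | h3
    · exact absurd (Subgroup.eq_bot_of_card_eq _ (le_antisymm
        ((Subgroup.card_le_card_group _).trans h1.le) Nat.card_pos)) hne1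
    · haveI : Fact (Nat.Prime 3) := ⟨Nat.prime_three⟩
      haveI : Fact (Nat.card (Fˣ ⧸ R)).Prime := ⟨by rw [h3]; exact Nat.prime_three⟩
      exact MonoidHom.range_eq_top.mp ((Subgroup.eq_bot_or_eq_top_of_prime_card φ.range).resolve_left hne1)
  have h3 : Nat.card (Fˣ ⧸ R) = 3 := by
    rcases hidx with h1 | h3
    · haveI := (Nat.card_eq_one_iff_unique.mp h1).1
      exact absurd ((hcls x y hx hy).mp (Subsingleton.elim _ _)) hne
    · exact h3
  have hc := Subgroup.card_mul_index φ.ker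
  rw [Subgroup.index_ker, Subgroup.card_eq_iff_eq_top _ |>.mpr (MonoidHom.range_eq_top.mpr hsurj), h3] at hc
  have hG : Nat.card φ.ker = Nat.card (G0 hK) := by
    rw [hker]; exact Nat.card_congr (Subgroup.subgroupOfEquivOfLe inf_le_left).toEquiv
  rw [hG, Nat.card_congr e] at hc
  simp only [Nat.card_eq_fintype_card] at hc ⊢
  rw [Fintype.card_subtype_compl, Fintype.card_subtype_eq, Fintype.card_fun, Fintype.card_fin] at hc
  omega

open scoped Classical in
theorem card_plane {W : Submodule F V₃} (hW : Module.finrank F W = 2) :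
    (univ.filter fun x : V₃ => x ∈ W ∧ x ≠ 0).card = q ^ 2 - 1 := by
  have e : (univ.filter fun x : V₃ => x ∈ W ∧ x ≠ 0) = (univ.filter fun x : V₃ => x ∈ W).erase 0 := by
    ext x; simp [and_comm]
  rw [e, card_erase_of_mem (by simp), ← Fintype.card_subtype, ← hW]
  congr 1
  exact (Nat.card_eq_fintype_card (α := W)).symm.trans
    ((Module.natCard_eq_pow_finrank (K := F) (V := W)).trans (by rw [Nat.card_eq_fintype_card]))

open scoped Classical in
theorem sum_cl {W : Submodule F V₃} (hW : Module.finrank F W = 2) :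
    ∑ x ∈ univ.filter (fun x : V₃ => x ∈ W ∧ x ≠ 0), (cl hK W x).card =
      (q - 1) * (q ^ 2 - 1) + (Nat.card (G0 hK) - (q - 1)) * (q - 1) := by
  classical
  set S := univ.filter (fun x : V₃ => x ∈ W ∧ x ≠ 0) with hS
  have h1 : ∀ x ∈ S, (cl hK W x).card =
      ∑ g : G0 hK, if ((g : GL (Fin 3) F) : M₃) *ᵥ x ∈ W then 1 else 0 := by
    intro x hx
    obtain ⟨-, hx0⟩ := (mem_filter.mp hx).2
    rw [← card_filter]
    refine (Finset.card_bij (fun (g : G0 hK) _ => ((g : GL (Fin 3) F) : M₃) *ᵥ x) (fun g hg => ?_)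
      (fun g _ g' _ e => ?_) fun y hy => ?_).symm
    · exact (mem_cl hK).mpr ⟨(mem_filter.mp hg).2, ne_zero_vec hK g.2.1 (g : GL (Fin 3) F).ne_zero hx0,
        ⟨g, g.2, rfl⟩⟩
    · exact Subtype.ext (Units.ext (eq_of_mulVec hK g.2.1 g'.2.1 hx0 e))
    · obtain ⟨hyW, -, g, hg, e⟩ := (mem_cl hK).mp hy
      exact ⟨⟨g, hg⟩, mem_filter.mpr ⟨mem_univ _, by rwa [e]⟩, e⟩
  rw [sum_congr rfl h1, sum_comm]
  simp only [← card_filter]
  set Z : Finset (G0 hK) := univ.image fun c : Fˣ => ⟨sc c, sc_mem_G0 hK c⟩ with hZ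
  have hZc : Z.card = q - 1 := by
    rw [hZ, card_image_of_injective _ fun a b e => Units.ext ?_, card_univ, Fintype.card_units]
    have h := congrArg (fun g : G0 hK => ((g : GL (Fin 3) F) : M₃) 0 0) e
    simpa [sc_coe] using h
  have hin : ∀ g ∈ Z, (S.filter fun x => ((g : GL (Fin 3) F) : M₃) *ᵥ x ∈ W).card = q ^ 2 - 1 := by
    intro g hg
    obtain ⟨c, -, rfl⟩ := mem_image.mp hg
    rw [filter_true_of_mem fun x hx => ?_, hS, card_plane hW]
    rw [sc_coe, smul_mulVec, one_mulVec]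
    exact W.smul_mem _ (mem_filter.mp hx).2.1
  have hout : ∀ g ∈ univ \ Z, (S.filter fun x => ((g : GL (Fin 3) F) : M₃) *ᵥ x ∈ W).card = q - 1 := by
    intro g hg
    set A := ((g : GL (Fin 3) F) : M₃) with hA
    have hns : NS A := fun c hc => (mem_sdiff.mp hg).2 (mem_image.mpr
      ⟨Units.mk0 c (fun h => (g : GL (Fin 3) F).ne_zero (by rw [← hA, hc, h, zero_smul])), mem_univ _,
        Subtype.ext (Units.ext (by rw [sc_coe, Units.val_mk0, ← hA, hc]))⟩)
    set D : Submodule F V₃ := W ⊓ W.comap (Matrix.mulVecLin A) with hD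
    have hlt : Module.finrank F D < 2 := by
      obtain ⟨x, hx, hx'⟩ := not_stable_plane hK hW g.2.1 hns
      exact hW ▸ Submodule.finrank_lt_finrank_of_lt (lt_of_le_of_ne inf_le_left fun e => hx' (by
        have : x ∈ D := e.symm ▸ hx
        exact this.2))
    have hge : 1 ≤ Module.finrank F D := by
      have hinj : Function.Injective (Matrix.mulVecLin A) :=
        Matrix.mulVec_injective_iff_isUnit.mpr (g : GL (Fin 3) F).isUnit
      have h2 : 2 ≤ Module.finrank F (W.comap (Matrix.mulVecLin A)) := by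
        let L := LinearEquiv.ofBijective (Matrix.mulVecLin A) (Finite.injective_iff_bijective.mp hinj)
        rw [show W.comap (Matrix.mulVecLin A) = W.map (L.symm : V₃ →ₗ[F] V₃) by
          rw [Submodule.map_equiv_eq_comap_symm]; rfl, LinearEquiv.finrank_map_eq, hW]
      have h3 := Submodule.finrank_sup_add_finrank_inf_eq W (W.comap (Matrix.mulVecLin A))
      have h4 : Module.finrank F ↥(W ⊔ W.comap (Matrix.mulVecLin A)) ≤ 3 :=
        (Submodule.finrank_le _).trans (by simp)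
      rw [← hD] at h3
      omega
    have e : (S.filter fun x => A *ᵥ x ∈ W) = (univ.filter fun x : V₃ => x ∈ D).erase 0 := by
      ext x; simp [hS, hD]; tauto
    rw [e, card_erase_of_mem (by simp), ← Fintype.card_subtype]
    have := (Module.natCard_eq_pow_finrank (K := F) (V := D))
    rw [show Module.finrank F D = 1 by omega, pow_one] at this
    simp only [Nat.card_eq_fintype_card] at this
    omega
  rw [← sum_sdiff (subset_univ Z), sum_congr rfl hout, sum_congr rfl hin, sum_const, sum_const, hZc,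
    card_sdiff_of_subset (subset_univ Z), card_univ, hZc, Nat.card_eq_fintype_card, smul_eq_mul, smul_eq_mul,
    add_comm]

theorem numbers (hex : ∃ x y, x ≠ 0 ∧ y ≠ 0 ∧ ¬ Same hK x y) {W : Submodule F V₃}
    (hW : Module.finrank F W = 2) {z : V₃} (hz : z ≠ 0) :
    ∃ b c : ℕ, N hK W z + b + c = q + 1 ∧ 3 * (N hK W z ^ 2 + b ^ 2 + c ^ 2) = q ^ 2 + 4 * q + 1 ∧
      ∀ y ∈ W, y ≠ 0 → ¬ Same hK z y → N hK W y = b ∨ N hK W y = c := by
  classical
  obtain ⟨cls, hcls, hQ, hG⟩ := class_map hK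
  haveI : Fintype (Fˣ ⧸ (powMonoidHom 3 : Fˣ →* Fˣ).range) := Fintype.ofFinite _
  have hQ3 : Fintype.card (Fˣ ⧸ (powMonoidHom 3 : Fˣ →* Fˣ).range) = 3 := by
    rw [← Nat.card_eq_fintype_card]
    refine hQ.resolve_left fun h1 => ?_
    obtain ⟨x, y, hx, hy, hne⟩ := hex
    haveI := (Nat.card_eq_one_iff_unique.mp h1).1
    exact hne ((hcls x y hx hy).mp (Subsingleton.elim _ _))
  have hG' := hG hex
  obtain ⟨c1, c2, h12, hrest⟩ := card_eq_two.mp (show (univ.erase (cls z)).card = 2 by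
    rw [card_erase_of_mem (mem_univ _), card_univ, hQ3])
  set S := univ.filter (fun x : V₃ => x ∈ W ∧ x ≠ 0) with hS
  have hfib : ∀ x, x ≠ 0 → S.filter (fun y => cls y = cls x) = cl hK W x := by
    intro x hx
    ext y
    rw [mem_filter, mem_cl, hS, mem_filter]
    constructor
    · rintro ⟨⟨-, hyW, hy0⟩, h⟩; exact ⟨hyW, hy0, (hcls x y hx hy0).mp h.symm⟩
    · rintro ⟨hyW, hy0, h⟩; exact ⟨⟨mem_univ _, hyW, hy0⟩, ((hcls x y hx hy0).mpr h).symm⟩
  have hn : ∀ c, ∃ n, (S.filter fun y => cls y = c).card = (q - 1) * n ∧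
      ∀ y ∈ W, y ≠ 0 → cls y = c → N hK W y = n := by
    intro c
    by_cases h : ∃ x, x ≠ 0 ∧ cls x = c
    · obtain ⟨x, hx, rfl⟩ := h
      refine ⟨N hK W x, by rw [hfib x hx, card_cl], fun y _ hy hc => ?_⟩
      rw [N, N, cl_congr hK ((hcls y x hy hx).mp hc)]
    · refine ⟨0, ?_, fun y _ hy hc => absurd ⟨y, hy, hc⟩ h⟩
      rw [mul_zero, card_eq_zero, filter_eq_empty_iff]
      exact fun y hy hc => h ⟨y, (mem_filter.mp hy).2.2, hc⟩
  choose n hn1 hn2 using hn
  have hq : 1 < q := Fintype.one_lt_card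
  have hza : n (cls z) = N hK W z := by
    have := hn1 (cls z)
    rw [hfib z hz, card_cl] at this
    exact (Nat.eq_of_mul_eq_mul_left (by omega) this).symm
  have huniv : (univ : Finset (Fˣ ⧸ (powMonoidHom 3 : Fˣ →* Fˣ).range)) = insert (cls z) {c1, c2} := by
    rw [← hrest, insert_erase (mem_univ _)]
  have hnot : cls z ∉ ({c1, c2} : Finset _) := by rw [← hrest]; exact notMem_erase _ _
  have hsum : ∀ f : Fˣ ⧸ (powMonoidHom 3 : Fˣ →* Fˣ).range → ℕ, ∑ c, f c = f (cls z) + f c1 + f c2 := by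
    intro f; rw [huniv, sum_insert hnot, sum_pair h12, add_assoc]
  have e1 : q ^ 2 - 1 = (q - 1) * (n (cls z) + n c1 + n c2) := by
    rw [← card_plane (F := F) hW, ← hsum n, mul_sum, ← hS, card_eq_sum_card_fiberwise (f := cls)
      (t := univ) (fun _ _ => mem_univ _)]
    exact sum_congr rfl fun c _ => hn1 c
  have e2 : (q - 1) * (q ^ 2 - 1) + (Nat.card (G0 hK) - (q - 1)) * (q - 1) =
      (q - 1) * ((q - 1) * (n (cls z) ^ 2 + n c1 ^ 2 + n c2 ^ 2)) := by
    rw [← sum_cl hK hW, ← hS, ← sum_fiberwise (g := cls), ← hsum fun c => n c ^ 2, mul_sum, mul_sum]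
    refine sum_congr rfl fun c _ => ?_
    have h : ∀ y ∈ S.filter (fun y => cls y = c), (cl hK W y).card = (q - 1) * n c := fun y hy => by
      obtain ⟨hyS, hc⟩ := mem_filter.mp hy
      obtain ⟨hyW, hy0⟩ := (mem_filter.mp hyS).2
      rw [card_cl, hn2 c y hyW hy0 hc]
    rw [sum_congr rfl h, sum_const, hn1 c, smul_eq_mul]
    ring
  refine ⟨n c1, n c2, ?_, ?_, fun y hy hy0 hne => ?_⟩
  · rw [← hza]
    have : q ^ 2 - 1 = (q - 1) * (q + 1) := by rw [mul_comm, ← Nat.sq_sub_sq, one_pow]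
    exact (Nat.eq_of_mul_eq_mul_left (by omega) (this.symm.trans e1)).symm
  · rw [← hza]
    obtain ⟨m, hm⟩ : ∃ m, q = m + 1 := ⟨q - 1, by omega⟩
    rw [hm, Nat.add_sub_cancel] at e2
    have h3 : 3 * Nat.card (G0 hK) = (m + 1) ^ 3 - 1 := hm ▸ hG'
    have hle : m ≤ Nat.card (G0 hK) := by
      have : 3 * m ≤ (m + 1) ^ 3 - 1 := by
        have : (m + 1) ^ 3 = m ^ 3 + 3 * m ^ 2 + 3 * m + 1 := by ring
        omega
      omega
    obtain ⟨r, hr⟩ := Nat.exists_eq_add_of_le hle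
    rw [hr, Nat.add_sub_cancel_left] at e2
    have hs : (m + 1) ^ 2 - 1 = m * (m + 2) := by
      have : (m + 1) ^ 2 = m * (m + 2) + 1 := by ring
      omega
    have hc : (m + 1) ^ 3 - 1 = m * (m ^ 2 + 3 * m + 3) := by
      have : (m + 1) ^ 3 = m * (m ^ 2 + 3 * m + 3) + 1 := by ring
      omega
    rw [hs] at e2; rw [hr, hc] at h3; rw [hm]
    refine Nat.eq_of_mul_eq_mul_left (show 0 < m * m by rw [hm] at hq; exact Nat.mul_pos (by omega) (by omega)) ?_
    calc _ = 3 * (m * (m * (n (cls z) ^ 2 + n c1 ^ 2 + n c2 ^ 2))) := by ring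
      _ = 3 * (m * (m * (m + 2)) + r * m) := by rw [e2]
      _ = m * (3 * (m + r)) + 3 * m * (m * (m + 2)) - 3 * m * m := by
        refine Nat.eq_sub_of_add_eq ?_
        ring
      _ = _ := by
        rw [h3]
        refine Nat.sub_eq_of_eq_add ?_
        ring
  · have : cls y ∈ ({c1, c2} : Finset _) := by
      rw [← hrest, mem_erase]
      exact ⟨fun h => hne ((hcls z y hz hy0).mp h.symm), mem_univ _⟩
    rcases mem_insert.mp this with h | h
    · exact Or.inl (hn2 _ y hy hy0 h)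
    · exact Or.inr (hn2 _ y hy hy0 (mem_singleton.mp h))

theorem N_all {W : Submodule F V₃} (hW : Module.finrank F W = 2) {z : V₃}
    (hall : ∀ x y : V₃, x ≠ 0 → y ≠ 0 → Same hK x y) (hz : z ≠ 0) : N hK W z = q + 1 := by
  classical
  have hq : 1 < q := Fintype.one_lt_card
  refine Nat.eq_of_mul_eq_mul_left (show 0 < q - 1 by omega) ?_
  rw [← card_cl, show cl hK W z = univ.filter (fun x : V₃ => x ∈ W ∧ x ≠ 0) by
    ext x; simp [mem_cl]; exact fun _ hx => hall z x hz hx, card_plane hW, mul_comm, ← Nat.sq_sub_sq, one_pow]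

theorem sq_bound {Q a b c : ℕ} (h1 : a + b + c = Q + 1) (h2 : 3 * (a ^ 2 + b ^ 2 + c ^ 2) = Q ^ 2 + 4 * Q + 1) :
    (3 * (a : ℤ) - Q - 1) ^ 2 ≤ 4 * Q := by
  have h1' : (a : ℤ) + b + c = Q + 1 := by exact_mod_cast h1
  have h2' : 3 * ((a : ℤ) ^ 2 + b ^ 2 + c ^ 2) = Q ^ 2 + 4 * Q + 1 := by exact_mod_cast h2
  have hbc : (c : ℤ) = Q + 1 - a - b := by linarith
  rw [hbc] at h2'
  nlinarith [sq_nonneg (2 * (b : ℤ) + a - Q - 1)]

theorem arith_two {Q a b c : ℕ} (hq : 8 ≤ Q ∨ Q = 2 ∨ Q = 3 ∨ Q = 5) (h1 : a + b + c = Q + 1)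
    (h2 : 3 * (a ^ 2 + b ^ 2 + c ^ 2) = Q ^ 2 + 4 * Q + 1) : 2 ≤ a := by
  by_contra h
  rcases hq with hq | rfl | rfl | rfl
  · have hb := sq_bound h1 h2
    have hQ : (8 : ℤ) ≤ Q := by exact_mod_cast hq
    interval_cases a <;> norm_num at hb <;> nlinarith
  all_goals
    have hb : b ≤ 6 := by omega
    have hc : c = 6 - a - b ∨ c ≤ 6 := by omega
    have hc' : c ≤ 6 := by omega
    interval_cases a <;> interval_cases b <;> interval_cases c <;> omega

theorem arith_three {Q a b c : ℕ} (hq : 13 ≤ Q) (h1 : a + b + c = Q + 1)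
    (h2 : 3 * (a ^ 2 + b ^ 2 + c ^ 2) = Q ^ 2 + 4 * Q + 1) : 3 ≤ a := by
  by_contra h
  have hb := sq_bound h1 h2
  have hQ : (13 : ℤ) ≤ Q := by exact_mod_cast hq
  interval_cases a <;> norm_num at hb <;> nlinarith

theorem arith_big {Q a b c r : ℕ} (hq : 30 ≤ Q) (hr : r * r ≤ Q) (h1 : a + b + c = Q + 1)
    (h2 : 3 * (a ^ 2 + b ^ 2 + c ^ 2) = Q ^ 2 + 4 * Q + 1) : r + 1 < a := by
  by_contra h
  have hb := sq_bound h1 h2
  have hQ : (30 : ℤ) ≤ Q := by exact_mod_cast hq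
  have hr' : (r : ℤ) * r ≤ Q := by exact_mod_cast hr
  have ha : (a : ℤ) ≤ r + 1 := by exact_mod_cast (show a ≤ r + 1 by omega)
  have hlin : 12 * (r : ℤ) ≤ Q + 36 := by nlinarith [sq_nonneg ((r : ℤ) - 6)]
  have hx : 3 * (Q : ℤ) - 44 ≤ 4 * ((Q : ℤ) + 1 - 3 * a) := by linarith
  have hx2 := mul_self_le_mul_self (by linarith) hx
  have hpoly : (0 : ℤ) ≤ ((Q : ℤ) - 30) * (9 * Q - 58) := mul_nonneg (by linarith) (by linarith)
  linarith

theorem arith_seven {a b c : ℕ} (ha : a ≤ 2) (h1 : a + b + c = 8) (h2 : 3 * (a ^ 2 + b ^ 2 + c ^ 2) = 78) :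
    a = 1 ∧ 3 ≤ b ∧ 3 ≤ c := by
  obtain rfl : c = 8 - a - b := by omega
  have hb : b ≤ 8 := by omega
  revert h1 h2
  interval_cases a <;> interval_cases b <;> decide

theorem arith_sixteen {a b c : ℕ} (h1 : a + b + c = 17) (h2 : 3 * (a ^ 2 + b ^ 2 + c ^ 2) = 321) :
    a = 3 ∨ a = 7 := by
  obtain rfl : c = 17 - a - b := by omega
  have ha : a ≤ 17 := by omega
  have hb : b ≤ 17 := by omega
  revert h1 h2
  interval_cases a <;> interval_cases b <;> decide

theorem arith_twentyfive {a b c : ℕ} (h1 : a + b + c = 26) (h2 : 3 * (a ^ 2 + b ^ 2 + c ^ 2) = 726) : 7 ≤ a := by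
  by_contra h
  obtain rfl : c = 26 - a - b := by omega
  have hb : b ≤ 26 := by omega
  revert h1 h2
  interval_cases a <;> interval_cases b <;> decide

section bounds


theorem two_le_N {W : Submodule F V₃} (hW : Module.finrank F W = 2) {z : V₃} (hz : z ≠ 0)
    (hq : 8 ≤ q ∨ q = 2 ∨ q = 3 ∨ q = 5) : 2 ≤ N hK W z := by
  by_cases hall : ∀ x y : V₃, x ≠ 0 → y ≠ 0 → Same hK x y
  · rw [N_all hK hW hall hz]; omega
  push Not at hall
  obtain ⟨b, c, h1, h2, -⟩ := numbers hK hall hW hz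
  exact arith_two hq h1 h2

theorem three_le_N {W : Submodule F V₃} (hW : Module.finrank F W = 2) {z : V₃} (hz : z ≠ 0)
    (hq : 13 ≤ q) : 3 ≤ N hK W z := by
  by_cases hall : ∀ x y : V₃, x ≠ 0 → y ≠ 0 → Same hK x y
  · rw [N_all hK hW hall hz]; omega
  push Not at hall
  obtain ⟨b, c, h1, h2, -⟩ := numbers hK hall hW hz
  exact arith_three hq h1 h2

theorem big_N {W : Submodule F V₃} (hW : Module.finrank F W = 2) {z : V₃} (hz : z ≠ 0)
    (hq : 30 ≤ q) {r : ℕ} (hr : r * r ≤ q) : r + 1 < N hK W z := by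
  by_cases hall : ∀ x y : V₃, x ≠ 0 → y ≠ 0 → Same hK x y
  · rw [N_all hK hW hall hz]
    rcases Nat.lt_or_ge r q with h | h
    · omega
    · nlinarith
  push Not at hall
  obtain ⟨b, c, h1, h2, -⟩ := numbers hK hall hW hz
  exact arith_big hq hr h1 h2

theorem N_seven {W : Submodule F V₃} (hW : Module.finrank F W = 2) {z : V₃} (hz : z ≠ 0)
    (hall : ¬ ∀ x y : V₃, x ≠ 0 → y ≠ 0 → Same hK x y) (hq : q = 7) (hN : N hK W z ≤ 2) :
    N hK W z = 1 ∧ ∀ y ∈ W, y ≠ 0 → ¬ Same hK z y → 3 ≤ N hK W y := by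
  push Not at hall
  obtain ⟨b, c, h1, h2, h3⟩ := numbers hK hall hW hz
  rw [hq] at h1 h2
  have := arith_seven hN h1 h2
  exact ⟨this.1, fun y hy hy0 hne => by rcases h3 y hy hy0 hne with h | h <;> omega⟩

theorem N_sixteen {W : Submodule F V₃} (hW : Module.finrank F W = 2) {z : V₃} (hz : z ≠ 0)
    (hq : q = 16) : N hK W z = 3 ∨ N hK W z = 7 ∨ N hK W z = 17 := by
  by_cases hall : ∀ x y : V₃, x ≠ 0 → y ≠ 0 → Same hK x y
  · rw [N_all hK hW hall hz, hq]; omega
  push Not at hall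
  obtain ⟨b, c, h1, h2, -⟩ := numbers hK hall hW hz
  rw [hq] at h1 h2
  have := arith_sixteen h1 h2
  omega

theorem N_twentyfive {W : Submodule F V₃} (hW : Module.finrank F W = 2) {z : V₃} (hz : z ≠ 0)
    (hq : q = 25) : 7 ≤ N hK W z := by
  by_cases hall : ∀ x y : V₃, x ≠ 0 → y ≠ 0 → Same hK x y
  · rw [N_all hK hW hall hz]; omega
  push Not at hall
  obtain ⟨b, c, h1, h2, -⟩ := numbers hK hall hW hz
  rw [hq] at h1 h2
  exact arith_twentyfive h1 h2

end bounds

end Cfsg.Agent.Lib.SLThree78.Singer
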