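import Cfsg.Agent.Lib.SLThree78.Singer.Basic

/-!
An overgroup of the normaliser of a cubic field containing an involution contains a transvection.
-/

set_option autoImplicit false
set_option linter.unusedSectionVars false

namespace Cfsg.Agent.Lib.SLThree78.Singer

open Matrix
open Cfsg.Agent.Lib.SubfieldMax (InTr)

variable {F : Type*} [Field F] [Fintype F] {K : Subalgebra F (Matrix (Fin 3) (Fin 3) F)}
  {H : Subgroup (GL (Fin 3) F)}

local notation "V₃" => (Fin 3 → F)
local notation "M₃" => Matrix (Fin 3) (Fin 3) F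
local notation "q" => Fintype.card F
local notation "SL₃F" => Cfsg.Geo.specialLinear (Fin 3) F

theorem exists_inTr_of_two (h2 : (2 : F) = 0) {s : GL (Fin 3) F} (hs : s ∈ H) (hs2 : s * s = 1) (hs1 : s ≠ 1) :
    ∃ v a : V₃, v ≠ 0 ∧ a ≠ 0 ∧ InTr H v a := by
  set D : M₃ := (s : M₃) - 1 with hD
  have hDD : D * D = 0 := by
    have e : (s : M₃) * s = 1 := by rw [← Units.val_mul, hs2, Units.val_one]
    have : D * D = 1 + 1 - ((s : M₃) + s) := by rw [hD, sub_mul, mul_sub, mul_sub, e]; simp; abel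
    rw [this, ← two_smul F (1 : M₃), ← two_smul F (s : M₃), h2, zero_smul, zero_smul, sub_zero]
  have hD0 : D ≠ 0 := fun e => hs1 (Units.ext (by rw [Units.val_one]; exact sub_eq_zero.mp e))
  obtain ⟨e, he⟩ : ∃ e, D *ᵥ e ≠ 0 := by
    by_contra hno
    push Not at hno
    exact hD0 (Matrix.ext_iff_mulVec.mpr fun x => by rw [hno x, zero_mulVec])
  set L := Matrix.mulVecLin D
  have hrk : Module.finrank F (LinearMap.range L) ≤ 1 := by
    have h1 := L.finrank_range_add_finrank_ker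
    have h3 := Submodule.finrank_mono (show LinearMap.range L ≤ LinearMap.ker L by
      rintro _ ⟨x, rfl⟩
      show D *ᵥ (D *ᵥ x) = 0
      rw [mulVec_mulVec, hDD, zero_mulVec])
    rw [Module.finrank_fin_fun] at h1
    omega
  have hspan : ∀ x, ∃ c : F, D *ᵥ x = c • (D *ᵥ e) := by
    intro x
    have hle : Submodule.span F ({D *ᵥ e} : Set V₃) = LinearMap.range L :=
      Submodule.eq_of_le_of_finrank_le ((Submodule.span_singleton_le_iff_mem _ _).mpr ⟨e, rfl⟩)
        (hrk.trans (finrank_span_singleton he).ge)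
    obtain ⟨c, hc⟩ := Submodule.mem_span_singleton.mp (hle.symm ▸ LinearMap.mem_range_self L x : D *ᵥ x ∈ Submodule.span F ({D *ᵥ e} : Set V₃))
    exact ⟨c, hc.symm⟩
  choose c hc using hspan
  let y : V₃ := fun i => c (Pi.single i 1)
  have hy : ∀ x, D *ᵥ x = (y ⬝ᵥ x) • (D *ᵥ e) := by
    intro x
    conv_lhs => rw [pi_eq_sum_univ' x]
    rw [mulVec_sum, dotProduct, Finset.sum_smul]
    refine Finset.sum_congr rfl fun i _ => ?_
    rw [mulVec_smul, hc, smul_smul, mul_comm]
  have hyv : y ⬝ᵥ (D *ᵥ e) = 0 := by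
    have := hy (D *ᵥ e)
    rw [mulVec_mulVec, hDD, zero_mulVec] at this
    exact (smul_eq_zero.mp this.symm).resolve_right he
  refine ⟨D *ᵥ e, y, he, fun e0 => he ?_, hyv, ?_⟩
  · rw [hy e, e0, zero_dotProduct, zero_smul]
  · rwa [show FormMax.Tr (D *ᵥ e) y hyv = s from FormMax.gl_ext fun x => by
      rw [FormMax.Tr_mulVec, ← hy, hD, sub_mulVec, one_mulVec, add_sub_cancel]]

theorem det_eq_neg_one {S : M₃} {x y z : V₃} (hli : LinearIndependent F ![x, y, z]) (hx : S *ᵥ x = x)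
    (hy : S *ᵥ y = y) (hz : S *ᵥ z = -z) : S.det = -1 := by
  let P : M₃ := (Matrix.of ![x, y, z])ᵀ
  have hP : IsUnit P := Matrix.linearIndependent_cols_iff_isUnit.mp hli
  have e : S * P = P * diagonal ![1, 1, -1] := by
    ext i j
    rw [mul_diagonal, mul_apply]
    fin_cases j
    · simpa [mulVec, dotProduct, P] using congrFun hx i
    · simpa [mulVec, dotProduct, P] using congrFun hy i
    · simpa [mulVec, dotProduct, P] using congrFun hz i
  have := congrArg Matrix.det e
  rw [det_mul, det_mul, mul_comm P.det] at this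
  rw [mul_right_cancel₀ ((Matrix.isUnit_iff_isUnit_det P).mp hP).ne_zero this, det_diagonal, Fin.prod_univ_three]
  simp

theorem isRef_of_involution (hH : H ≤ SL₃F) (h2 : (2 : F) ≠ 0) {s : GL (Fin 3) F} (hs : s ∈ H)
    (hs2 : s * s = 1) (hs1 : s ≠ 1) : ∃ v ψ, IsRef H v ψ ∧ (s : M₃) *ᵥ v = v := by
  have hd := det_of_mem (hH hs)
  have e : ∀ x : V₃, (s : M₃) *ᵥ ((s : M₃) *ᵥ x) = x := fun x => by
    rw [mulVec_mulVec, ← Units.val_mul, hs2, Units.val_one, one_mulVec]
  obtain ⟨w, hw⟩ : ∃ w, (s : M₃) *ᵥ w ≠ w := by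
    by_contra hno
    push Not at hno
    exact hs1 (FormMax.gl_ext fun x => by rw [hno, Units.val_one, one_mulVec])
  set fix : Submodule F V₃ := LinearMap.ker (Matrix.mulVecLin ((s : M₃) - 1)) with hfix
  have hmem : ∀ x, x ∈ fix ↔ (s : M₃) *ᵥ x = x := fun x => by
    rw [hfix, LinearMap.mem_ker, Matrix.mulVecLin_apply, sub_mulVec, one_mulVec, sub_eq_zero]
  have hplus : ∀ x, (s : M₃) *ᵥ x + x ∈ fix := fun x => by rw [hmem, mulVec_add, e, add_comm]
  -- the fixed space is a line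
  have hne : ∃ v, v ≠ 0 ∧ (s : M₃) *ᵥ v = v := by
    by_contra hno
    push Not at hno
    have hm : (s : M₃) = (-1 : F) • 1 := Matrix.ext_iff_mulVec.mpr fun x => by
      rw [smul_mulVec, one_mulVec, neg_one_smul, eq_neg_iff_add_eq_zero]
      by_contra h0
      exact hno _ h0 ((hmem _).mp (hplus x))
    rw [hm, det_smul, Matrix.det_one, mul_one, Fintype.card_fin] at hd
    exact h2 (by linear_combination -hd)
  obtain ⟨v, hv0, hv⟩ := hne
  have hline : ∀ x ∈ fix, ∃ c : F, x = c • v := by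
    intro x hx
    by_contra hno
    push Not at hno
    have hz : (s : M₃) *ᵥ (w - (s : M₃) *ᵥ w) = -(w - (s : M₃) *ᵥ w) := by rw [mulVec_sub, e, neg_sub]
    have hli : LinearIndependent F ![v, x, w - (s : M₃) *ᵥ w] := by
      rw [Fintype.linearIndependent_iff]
      intro c hc
      rw [Fin.sum_univ_three] at hc
      simp only [Matrix.cons_val_zero, Matrix.cons_val_one, Matrix.cons_val] at hc
      have h' := congrArg ((s : M₃) *ᵥ ·) hc
      simp only [mulVec_add, mulVec_smul, hv, (hmem x).mp hx, hz, mulVec_zero] at h'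
      have hc2 : c 2 = 0 := by
        have : (2 * c 2) • (w - (s : M₃) *ᵥ w) = 0 := by
          calc _ = (c 0 • v + c 1 • x + c 2 • (w - (s : M₃) *ᵥ w)) -
              (c 0 • v + c 1 • x + c 2 • -(w - (s : M₃) *ᵥ w)) := by module
            _ = 0 := by rw [hc, h', sub_zero]
        exact (mul_eq_zero.mp ((smul_eq_zero.mp this).resolve_right
          (sub_ne_zero.mpr (Ne.symm hw)))).resolve_left h2
      rw [hc2, zero_smul, add_zero] at hc
      have hc1 : c 1 = 0 := by
        by_contra h1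
        refine hno (-(c 0) / c 1) ?_
        rw [div_eq_inv_mul, ← smul_smul, neg_smul, ← eq_neg_of_add_eq_zero_right hc, smul_smul,
          inv_mul_cancel₀ h1, one_smul]
      rw [hc1, zero_smul, add_zero, smul_eq_zero] at hc
      exact fun i => by fin_cases i <;> [exact hc.resolve_right hv0; exact hc1; exact hc2]
    rw [det_eq_neg_one hli hv ((hmem x).mp hx) hz] at hd
    exact h2 (by linear_combination -hd)
  choose f hf using fun x => hline _ (hplus x)
  let ψ : V₃ := fun i => -f (Pi.single i 1)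
  have hψ : ∀ x, (s : M₃) *ᵥ x + x = (-(ψ ⬝ᵥ x)) • v := by
    intro x
    conv_lhs => rw [pi_eq_sum_univ' x]
    rw [mulVec_sum, ← Finset.sum_add_distrib, dotProduct, ← Finset.sum_neg_distrib, Finset.sum_smul]
    refine Finset.sum_congr rfl fun i _ => ?_
    rw [mulVec_smul, ← smul_add, hf, smul_smul, neg_mul_eq_neg_mul, neg_neg, mul_comm]
  refine ⟨v, ψ, ⟨hv0, ?_, ?_, s, hs, fun z => ?_⟩, hv⟩
  · intro e0
    have := hψ v
    rw [e0, zero_dotProduct, neg_zero, zero_smul, hv, ← two_smul F v, smul_eq_zero] at this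
    exact this.elim h2 hv0
  · have := hψ v
    rw [hv, ← two_smul F v] at this
    linear_combination (smul_left_injective F hv0) this
  · rw [eq_sub_of_add_eq (hψ z), neg_smul]
    abel

/-- The plane killed by a functional. -/
def planeOf (a : V₃) : Submodule F V₃ where
  carrier := {x | a ⬝ᵥ x = 0}
  add_mem' := fun {x y} hx hy => by show a ⬝ᵥ (x + y) = 0; rw [dotProduct_add, hx, hy, add_zero]
  zero_mem' := dotProduct_zero a
  smul_mem' := fun c x hx => by show a ⬝ᵥ (c • x) = 0; rw [dotProduct_smul, hx, smul_zero]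

theorem mem_planeOf {a x : V₃} : x ∈ planeOf a ↔ a ⬝ᵥ x = 0 := Iff.rfl

theorem finrank_planeOf {a : V₃} (ha : a ≠ 0) : Module.finrank F (planeOf a) = 2 := by
  let L : V₃ →ₗ[F] F :=
    { toFun := fun x => a ⬝ᵥ x
      map_add' := fun x y => dotProduct_add _ _ _
      map_smul' := fun c x => dotProduct_smul _ _ _ }
  have e : planeOf a = LinearMap.ker L := rfl
  have hs : Function.Surjective L := by
    obtain ⟨i, hi⟩ := Function.ne_iff.mp ha
    exact fun c => ⟨Pi.single i (c / a i), by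
      show a ⬝ᵥ _ = c
      rw [dotProduct_single]
      exact mul_div_cancel₀ c hi⟩
  have h1 := L.finrank_range_add_finrank_ker
  rw [LinearMap.range_eq_top.mpr hs, finrank_top, Module.finrank_self, Module.finrank_fin_fun, ← e] at h1
  omega

section

variable (h : Over K H) (hno : ∀ v a : Fin 3 → F, v ≠ 0 → a ≠ 0 → ¬ InTr H v a)
include h hno

theorem symm_commute {v ψ z ξ : V₃} (hv : IsRef H v ψ) (hz : IsRef H z ξ) (hpz : ψ ⬝ᵥ z = 0) :
    ξ ⬝ᵥ v = 0 := by
  have h1 := hv.conjRef hz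
  rw [hpz, zero_smul, add_zero] at h1
  have h2 := h1.sameCentre hz
  rw [add_sub_cancel_left] at h2
  by_contra hne
  exact hno z _ hz.centre_ne (smul_ne_zero hne hv.axis_ne) h2

/-- At most two points of one class are centres on the axis of a centre. -/
theorem N_le_two {v ψ z₀ ξ : V₃} (hv : IsRef H v ψ) (hz : IsRef H z₀ ξ) :
    N h.isField (planeOf ψ) z₀ ≤ 2 := by
  by_contra hgt
  obtain ⟨s, hs, hind⟩ := exists_points h.isField (W := planeOf ψ) (z := z₀) (k := 3) (by omega)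
  have hg : ∀ i, ∃ g ∈ H, (g : M₃) ∈ K ∧ ∃ c : F, c ≠ 0 ∧ (g : M₃) *ᵥ z₀ = c • s i :=
    fun i => h.same_move ((mem_cl h.isField).mp (hs i)).2.2
  choose g hgH hgK c hc hgz using hg
  have hW : ∀ i, ψ ⬝ᵥ ((g i : M₃) *ᵥ z₀) = 0 := fun i => by
    rw [hgz, dotProduct_smul, ((mem_cl h.isField).mp (hs i)).1, smul_zero]
  have hperp : ∀ i, ξ ⬝ᵥ (((g i)⁻¹ : GL (Fin 3) F) : M₃) *ᵥ v = 0 := fun i => by
    have h1 : IsRef H ((g i : M₃) *ᵥ z₀) (ξ ᵥ* (((g i)⁻¹ : GL (Fin 3) F) : M₃)) :=
      hz.conj' (hgH i) rfl fun x => by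
        rw [← dotProduct_mulVec, LinearFrame.inv_mulVec_mulVec]
    rw [dotProduct_mulVec]
    exact symm_commute h hno hv h1 (hW i)
  have hdep : ∀ (u : Fin 3 → V₃) (a : V₃), a ≠ 0 → (∀ i, a ⬝ᵥ u i = 0) →
      u 1 ∉ Submodule.span F {u 0} → u 0 ≠ 0 → ∃ α β : F, u 2 = α • u 0 + β • u 1 := by
    intro u a ha hu h01 h0
    have hle : Submodule.span F ({u 0, u 1} : Set V₃) = planeOf a :=
      Submodule.eq_of_le_of_finrank_le (Submodule.span_le.mpr (by
        rintro x (rfl | rfl)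
        · exact hu 0
        · exact hu 1)) (by
        rw [finrank_planeOf ha]

        have hli : LinearIndependent F ![u 0, u 1] :=
          (LinearIndependent.pair_iff' h0).mpr fun t e => h01 (Submodule.mem_span_singleton.mpr ⟨t, e⟩)
        have h2 := finrank_span_eq_card hli
        rw [Matrix.range_cons, Matrix.range_cons, Matrix.range_empty, Set.union_empty, Set.singleton_union,
          Fintype.card_fin] at h2
        omega)
    have h2 : u 2 ∈ Submodule.span F ({u 0, u 1} : Set V₃) := hle ▸ hu 2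
    obtain ⟨α, β, e⟩ := Submodule.mem_span_pair.mp h2
    exact ⟨α, β, e.symm⟩
  have hK := h.isField
  have hs0 : ∀ i, s i ≠ 0 := fun i => ((mem_cl hK).mp (hs i)).2.1
  -- the centres are collinear, and so are the preimages
  set A := fun i => (g i : M₃) with hA
  set B := fun i => (((g i)⁻¹ : GL (Fin 3) F) : M₃) with hB
  have hBK : ∀ i, B i ∈ K := fun i => (KU hK).inv_mem (x := g i) (hgK i)
  have hAB : ∀ i, A i * B i = 1 := fun i => Units.mul_inv _
  have hne : ∀ i j, i ≠ j → ∀ t : F, A j ≠ t • A i := by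
    intro i j hij t e
    refine hind i j hij (Submodule.mem_span_singleton.mpr ⟨t * c i / c j, ?_⟩)
    have h1 : c j • s j = t • c i • s i := by
      rw [← hgz, ← hgz, ← smul_mulVec]; exact congrArg (· *ᵥ z₀) e
    have h3 : c j ≠ 0 := hc j
    rw [div_eq_inv_mul, ← smul_smul, ← smul_smul t, ← h1, smul_smul, inv_mul_cancel₀ h3, one_smul]
  obtain ⟨α, β, e1⟩ := hdep (fun i => A i *ᵥ z₀) ψ hv.axis_ne hW (fun hm => by
    obtain ⟨t, ht⟩ := Submodule.mem_span_singleton.mp hm
    exact hne 0 1 (by decide) t (eq_of_mulVec hK (hgK 1) (K.smul_mem (hgK 0) t) hz.centre_ne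
      (by rw [smul_mulVec]; exact ht.symm))) (ne_zero_vec hK (hgK 0) (g 0).ne_zero hz.centre_ne)
  obtain ⟨γ, δ, e2⟩ := hdep (fun i => B i *ᵥ v) ξ hz.axis_ne hperp (fun hm => by
    obtain ⟨t, ht⟩ := Submodule.mem_span_singleton.mp hm
    have hb := eq_of_mulVec hK (hBK 1) (K.smul_mem (hBK 0) t) hv.centre_ne (by rw [smul_mulVec]; exact ht.symm)
    have : A 1 * B 1 * A 0 = t • A 1 := by
      rw [hb, mul_smul_comm, smul_mul_assoc, mul_assoc,
        show B 0 * A 0 = 1 from Units.inv_mul _, mul_one]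
    rw [hAB, one_mul] at this
    have ht0 : t ≠ 0 := fun e => (g 0).ne_zero (by show A 0 = 0; rw [this, e, zero_smul])
    exact hne 0 1 (by decide) t⁻¹ (by rw [this, smul_smul, inv_mul_cancel₀ ht0, one_smul]))
    (ne_zero_vec hK (hBK 0) ((g 0)⁻¹).ne_zero hv.centre_ne)
  have f1 : A 2 = α • A 0 + β • A 1 := eq_of_mulVec hK (hgK 2)
    (K.add_mem (K.smul_mem (hgK 0) _) (K.smul_mem (hgK 1) _)) hz.centre_ne
    (by rw [add_mulVec, smul_mulVec, smul_mulVec]; exact e1)
  have f2 : B 2 = γ • B 0 + δ • B 1 := eq_of_mulVec hK (hBK 2)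
    (K.add_mem (K.smul_mem (hBK 0) _) (K.smul_mem (hBK 1) _)) hv.centre_ne
    (by rw [add_mulVec, smul_mulVec, smul_mulVec]; exact e2)
  set r := A 0 * B 1 with hr
  set r' := A 1 * B 0 with hr'
  have hrr : r * r' = 1 := by
    rw [hr, hr', mul_assoc, ← mul_assoc (B 1), show B 1 * A 1 = 1 from Units.inv_mul _, one_mul, hAB]
  have hrK : r ∈ K := K.mul_mem (hgK 0) (hBK 1)
  have h2' : (α * γ + β * δ - 1) • (1 : M₃) + (α * δ) • r + (β * γ) • r' = 0 := by
    have := hAB 2
    rw [f1, f2] at this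
    simp only [add_mul, mul_add, smul_mul_assoc, mul_smul_comm, smul_smul, hAB, ← hr, ← hr'] at this
    rw [sub_smul, one_smul]
    nth_rewrite 2 [← this]
    module
  have hns : NS r := fun t e => hne 1 0 (by decide) t (by
    have := congrArg (· * A 1) e
    simp only [hr, mul_assoc, show B 1 * A 1 = 1 from Units.inv_mul _, mul_one, smul_mul_assoc, one_mul] at this
    exact this)
  obtain ⟨h5, -, h6⟩ := quad hK hrK hns (a := α * δ) (b := α * γ + β * δ - 1) (c := β * γ) (by
    have := congrArg (r * ·) h2'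
    simp only [mul_add, mul_smul_comm, mul_one, mul_zero, hrr] at this
    rw [← this]; abel)
  rcases mul_eq_zero.mp h5 with h0 | h0
  · exact hne 1 2 (by decide) β (by rw [f1, h0, zero_smul, zero_add])
  rcases mul_eq_zero.mp h6 with h1 | h1
  · exact hne 0 2 (by decide) α (by rw [f1, h1, zero_smul, add_zero])
  · have : B 2 = 0 := by rw [f2, h0, h1, zero_smul, zero_smul, add_zero]
    exact ((g 2)⁻¹).ne_zero this

/-- There is no reflection. -/
theorem false_of_isRef (hodd : Odd q) (hq4 : q ≠ 4) {v ψ : V₃} (hv : IsRef H v ψ) : False := by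
  have hK := h.isField
  have hW := finrank_planeOf hv.axis_ne
  have hN := N_le_two h hno hv hv
  have hq1 : 1 < q := Fintype.one_lt_card
  obtain ⟨k, hk⟩ := hodd
  by_cases hall : ∀ x y : V₃, x ≠ 0 → y ≠ 0 → Same hK x y
  · rw [N_all hK hW hall hv.centre_ne] at hN
    omega
  by_cases h13 : 13 ≤ q
  · have := three_le_N hK hW hv.centre_ne h13
    omega
  have hmod : q % 3 = 1 := by
    by_contra hne
    exact hall (all_same hK hne)
  have h7 : q = 7 := by omega
  obtain ⟨hN1, hoth⟩ := N_seven hK hW hv.centre_ne hall h7 hN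
  obtain ⟨s, hs, -⟩ := exists_points hK (W := planeOf ψ) (z := v) (k := 1) (by omega)
  obtain ⟨hsW, hs0, hsv⟩ := (mem_cl hK).mp (hs 0)
  obtain ⟨g, hg, -, c, hc, hgv⟩ := h.same_move hsv
  have hz : IsRef H (s 0) (c • (ψ ᵥ* ((g⁻¹ : GL (Fin 3) F) : M₃))) := by
    have h1 : IsRef H (c • s 0) (ψ ᵥ* ((g⁻¹ : GL (Fin 3) F) : M₃)) :=
      hv.conj' hg hgv fun x => by rw [← dotProduct_mulVec, LinearFrame.inv_mulVec_mulVec]
    have h2 := h1.scale (c := c⁻¹) (d := c) (inv_mul_cancel₀ hc)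
    rwa [smul_smul, inv_mul_cancel₀ hc, one_smul] at h2
  generalize c • (ψ ᵥ* ((g⁻¹ : GL (Fin 3) F) : M₃)) = ξ at hz
  set z := s 0
  replace hsW : ψ ⬝ᵥ z = 0 := hsW
  have hξv : ξ ⬝ᵥ v = 0 := symm_commute h hno hv hz hsW
  -- the third reflection
  obtain ⟨hv0, hψ0, hψv, m, hm, hme⟩ := hv
  obtain ⟨hz0, hξ0, hξz, m', hm', hme'⟩ := hz
  have h2F : (2 : F) ≠ 0 := fun e => by
    have h' : ψ ⬝ᵥ v = 0 := by rw [hψv, e, neg_zero]
    obtain ⟨p, hp, hpc⟩ : ∃ p, p.Prime ∧ CharP F p :=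
      ⟨ringChar F, CharP.char_is_prime F _, ringChar.charP F⟩
    obtain ⟨n, -, hn⟩ := FiniteField.card F p
    have hp2 : p ∣ 2 := (CharP.cast_eq_zero_iff F p 2).mp (by exact_mod_cast e)
    have : p = 2 := (Nat.prime_dvd_prime_iff_eq hp Nat.prime_two).mp hp2
    have : (2 : ℕ) ∣ 7 := by rw [← h7, hn, this]; exact dvd_pow_self _ n.ne_zero
    omega
  have hm1 : m * m' ≠ 1 := by
    intro e
    have h1 := congrArg (fun g : GL (Fin 3) F => (g : M₃) *ᵥ z) e
    simp only [Units.val_mul, ← mulVec_mulVec, Units.val_one, one_mulVec, hme', hme, hξz,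
      dotProduct_neg, dotProduct_add, dotProduct_smul, hsW, smul_zero, add_zero, neg_zero, zero_smul] at h1
    have h4 : (2 : F) • z = 0 := by
      linear_combination (norm := module) -h1
    exact (smul_eq_zero.mp h4).elim h2F hz0
  have hprod : ∀ w, ((m * m' : GL (Fin 3) F) : M₃) *ᵥ w = w + (ψ ⬝ᵥ w) • v + (ξ ⬝ᵥ w) • z := by
    intro w
    rw [Units.val_mul, ← mulVec_mulVec, hme', hme, dotProduct_neg, dotProduct_add, dotProduct_smul, hsW,
      smul_zero, add_zero]
    module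
  have hsq : (m * m') * (m * m') = 1 := FormMax.gl_ext fun w => by
    rw [Units.val_mul, ← mulVec_mulVec, hprod, hprod, Units.val_one, one_mulVec]
    simp only [dotProduct_add, dotProduct_smul, hψv, hξv, hsW, hξz, smul_eq_mul]
    module
  obtain ⟨x, χ, hx, hxfix⟩ := isRef_of_involution h.le h2F (H.mul_mem hm hm') hsq hm1
  have hxN := N_le_two h hno (v := v) (ψ := ψ) ⟨hv0, hψ0, hψv, m, hm, hme⟩ hx
  obtain ⟨hx0, -, hχx, m'', hm'', hme''⟩ := hx
  have hfix : (ψ ⬝ᵥ x) • v + (ξ ⬝ᵥ x) • z = 0 := by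
    have e1 : ((m * m' : GL (Fin 3) F) : M₃) *ᵥ x = x := by
      exact hxfix
    rwa [hprod, add_assoc, add_eq_left] at e1
  have hψx : ψ ⬝ᵥ x = 0 := by
    have := congrArg (ψ ⬝ᵥ ·) hfix
    simp only [dotProduct_add, dotProduct_smul, hψv, hsW, smul_zero, mul_zero, add_zero, dotProduct_zero, smul_eq_mul] at this
    exact (mul_eq_zero.mp this).resolve_right (neg_ne_zero.mpr h2F)
  have hξx : ξ ⬝ᵥ x = 0 := by
    rw [hψx, zero_smul, zero_add, smul_eq_zero] at hfix
    exact hfix.resolve_right hz0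
  by_cases hsx : Same hK v x
  · have h2 : 2 ≤ N hK (planeOf ψ) v := by
      classical
      have hz1 : z ∈ cl hK (planeOf ψ) v := hs 0
      have hx1 : x ∈ cl hK (planeOf ψ) v := (mem_cl hK).mpr ⟨hψx, hx0, hsx⟩
      refine Finset.one_lt_card.mpr ⟨_, Finset.mem_image_of_mem _ hz1, _, Finset.mem_image_of_mem _ hx1, ?_⟩
      intro e
      obtain ⟨t, ht⟩ := Submodule.mem_span_singleton.mp (e ▸ Submodule.mem_span_singleton_self x :
        x ∈ Submodule.span F ({z} : Set V₃))
      rw [← ht, dotProduct_smul, hξz, smul_eq_mul, mul_eq_zero] at hξx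
      exact hx0 (by rw [← ht, hξx.resolve_right (neg_ne_zero.mpr h2F), zero_smul])
    omega
  · have := hoth x hψx hx0 hsx
    omega

end

end Cfsg.Agent.Lib.SLThree78.Singer
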