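import Cfsg.Agent.Lib.SLThree78.Singer.Basic

/-!
The field of sixteen elements with three special planes through a point of an invariant class.
-/

set_option autoImplicit false
set_option linter.unusedSectionVars false

namespace Cfsg.Agent.Lib.SLThree78.Singer

open Matrix Finset

variable {F : Type*} [Field F] [Fintype F] {K : Subalgebra F (Matrix (Fin 3) (Fin 3) F)}
  {H : Subgroup (GL (Fin 3) F)}

local notation "V₃" => (Fin 3 → F)
local notation "M₃" => Matrix (Fin 3) (Fin 3) F
local notation "q" => Fintype.card F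
local notation "SL₃F" => Cfsg.Geo.specialLinear (Fin 3) F

namespace Sixteen

/-- The line through a vector. -/
abbrev Ln (x : Fin 3 → F) : Submodule F (Fin 3 → F) := Submodule.span F ({x} : Set (Fin 3 → F))

variable (hK : Cfsg.Geo.IsFieldSubalgebra 3 K)
include hK

/-- An element of order thirteen of the normaliser of a cubic field lies in the field. -/
theorem mem_of_pow_thirteen {x : GL (Fin 3) F} (hx : x ∈ Cfsg.Geo.subalgebraNormalizer K)
    (h13 : x ^ 13 = 1) : (x : M₃) ∈ K := by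
  classical
  have hfield : IsField K :=
    { exists_pair_ne := ⟨0, 1, zero_ne_one⟩
      mul_comm := fun a b => Subtype.ext (hK.comm _ a.2 _ b.2)
      mul_inv_cancel := fun {a} ha => by
        obtain ⟨j, hj, e⟩ := hK.inv _ a.2 (fun h => ha (Subtype.ext h))
        exact ⟨⟨j, hj⟩, Subtype.ext e⟩ }
  letI : Field K := hfield.toField
  haveI : Finite K := Finite.of_injective _ Subtype.val_injective
  have hfr : Module.finrank F K = 3 := hK.finrank_eq
  set A := (x : M₃) with hA
  set A' := ((x⁻¹ : GL (Fin 3) F) : M₃) with hA'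
  have hAA' : A * A' = 1 := by rw [hA, hA', ← Units.val_mul, mul_inv_cancel, Units.val_one]
  have hA'A : A' * A = 1 := by rw [hA, hA', ← Units.val_mul, inv_mul_cancel, Units.val_one]
  let φ : K →ₐ[F] K :=
    { toFun := fun k => ⟨A * k * A', (hx k).1 k.2⟩
      map_one' := Subtype.ext (by show A * 1 * A' = 1; rw [mul_one, hAA'])
      map_mul' := fun a b => Subtype.ext (by
        show A * ((a : M₃) * b) * A' = (A * a * A') * (A * b * A')
        simp only [mul_assoc]
        rw [← mul_assoc A' A, hA'A, one_mul])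
      map_zero' := Subtype.ext (by show A * 0 * A' = 0; simp)
      map_add' := fun a b => Subtype.ext (by
        show A * ((a : M₃) + b) * A' = A * a * A' + A * b * A'
        rw [mul_add, add_mul])
      commutes' := fun c => Subtype.ext (by
        show A * algebraMap F M₃ c * A' = algebraMap F _ c
        rw [← Algebra.commutes, mul_assoc, hAA', mul_one]) }
  have hbij : Function.Bijective φ := Finite.injective_iff_bijective.1 φ.toRingHom.injective
  let σ : Gal(K/F) := AlgEquiv.ofBijective φ hbij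
  have hcomm : ∀ k : K, A * (k : M₃) = ((σ k : K) : M₃) * A := fun k => by
    show A * k = A * k * A' * A
    rw [mul_assoc _ A', hA'A, mul_one]
  have hpowk : ∀ (i : ℕ) (k : K), A ^ i * (k : M₃) = (((σ ^ i) k : K) : M₃) * A ^ i := by
    intro i
    induction i with
    | zero => simp
    | succ i ih =>
      intro k
      rw [pow_succ' A, mul_assoc, ih, ← mul_assoc, hcomm, mul_assoc, ← pow_succ', pow_succ' σ, AlgEquiv.mul_apply]
  have hA13 : A ^ 13 = 1 := by rw [hA, ← Units.val_pow_eq_pow_val, h13, Units.val_one]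
  have h1 : σ ^ 13 = 1 := AlgEquiv.ext fun k => Subtype.ext (by
    have := hpowk 13 k
    rw [hA13, one_mul, mul_one] at this
    exact this.symm)
  have h3 : σ ^ 3 = 1 := by
    have h := pow_card_eq_one' (x := σ)
    rw [IsGalois.card_aut_eq_finrank F K] at h
    exact Eq.trans (congrArg (σ ^ ·) hfr.symm) h
  have hσ : σ = 1 := by
    have := Nat.dvd_gcd (orderOf_dvd_of_pow_eq_one h1) (orderOf_dvd_of_pow_eq_one h3)
    norm_num at this
    exact this
  refine LinClasses.Singer.mem_of_commute hK fun k hk => ?_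
  have := hcomm ⟨k, hk⟩
  rwa [hσ] at this

/-- The number of points of a class is the index of the scalars in `G0`. -/
theorem card_G0_eq {v : V₃} (hv0 : v ≠ 0) : (cl hK ⊤ v).card = Nat.card (G0 hK) := by
  classical
  rw [Nat.card_eq_fintype_card, ← card_univ]
  refine (card_bij (fun (g : G0 hK) _ => ((g : GL (Fin 3) F) : M₃) *ᵥ v) (fun g _ => ?_)
    (fun g _ g' _ e => ?_) fun y hy => ?_).symm
  · exact (mem_cl hK).mpr ⟨Submodule.mem_top, ne_zero_vec hK g.2.1 (g : GL (Fin 3) F).ne_zero hv0, g, g.2, rfl⟩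
  · exact Subtype.ext (Units.ext (eq_of_mulVec hK g.2.1 g'.2.1 hv0 e))
  · obtain ⟨-, -, g, hg, e⟩ := (mem_cl hK).mp hy
    exact ⟨⟨g, hg⟩, mem_univ _, e⟩

/-- There is a class with ninety-one points. -/
theorem card_points (hq : q = 16) {v : V₃} (hv0 : v ≠ 0) {W : Submodule F V₃}
    (hW : Module.finrank F W = 2) (hN : N hK W v = 3) : N hK ⊤ v = 91 := by
  have hex : ∃ x y : V₃, x ≠ 0 ∧ y ≠ 0 ∧ ¬ Same hK x y := by
    by_contra hno
    push Not at hno
    rw [N_all hK hW hno hv0, hq] at hN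
    omega
  obtain ⟨-, -, -, hG⟩ := class_map hK
  have h := hG hex
  rw [← card_G0_eq hK hv0, card_cl, hq] at h
  omega

/-- The rigid part: a map fixing a point and two further lines on each of two planes through it. -/
theorem scalar_of_lines {r : M₃} {v u u' w w' : V₃} (hli : LinearIndependent F ![v, u, w])
    {x y x' y' : F} (hx : x ≠ 0) (hy : y ≠ 0) (hx' : x' ≠ 0) (hy' : y' ≠ 0)
    (hu' : u' = x • v + y • u) (hw' : w' = x' • v + y' • w) {a b b' c c' : F}
    (hv : r *ᵥ v = a • v) (hu : r *ᵥ u = b • u) (hu2 : r *ᵥ u' = c • u')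
    (hw : r *ᵥ w = b' • w) (hw2 : r *ᵥ w' = c' • w') : r = a • 1 := by
  have key : ∀ α β γ : F, α • v + β • u + γ • w = 0 → α = 0 ∧ β = 0 ∧ γ = 0 := by
    intro α β γ h
    have := Fintype.linearIndependent_iff.mp hli ![α, β, γ] (by rw [Fin.sum_univ_three]; simpa using h)
    exact ⟨this 0, this 1, this 2⟩
  have hb : b = a := by
    rw [hu', mulVec_add, mulVec_smul, mulVec_smul, hv, hu] at hu2
    obtain ⟨e1, e2, -⟩ := key (x * a - c * x) (y * b - c * y) 0 (by
      rw [← sub_eq_zero] at hu2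
      rw [← hu2]
      module)
    have ca : c = a := mul_left_cancel₀ hx (by linear_combination -e1)
    have cb : c = b := mul_left_cancel₀ hy (by linear_combination -e2)
    rw [← cb, ca]
  have hb' : b' = a := by
    rw [hw', mulVec_add, mulVec_smul, mulVec_smul, hv, hw] at hw2
    obtain ⟨e1, -, e2⟩ := key (x' * a - c' * x') 0 (y' * b' - c' * y') (by
      rw [← sub_eq_zero] at hw2
      rw [← hw2]
      module)
    have ca : c' = a := mul_left_cancel₀ hx' (by linear_combination -e1)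
    have cb : c' = b' := mul_left_cancel₀ hy' (by linear_combination -e2)
    rw [← cb, ca]
  subst hb; subst hb'
  let P : M₃ := (Matrix.of ![v, u, w])ᵀ
  have hP : IsUnit P := Matrix.linearIndependent_cols_iff_isUnit.mp hli
  refine hP.mul_right_cancel ?_
  ext i j
  rw [smul_mul_assoc, one_mul, mul_apply, Matrix.smul_apply, smul_eq_mul]
  fin_cases j
  · simpa [mulVec, dotProduct, P] using congrFun hv i
  · simpa [mulVec, dotProduct, P] using congrFun hu i
  · simpa [mulVec, dotProduct, P] using congrFun hw i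

omit hK in
theorem eq_span_of_mem {W W' : Submodule F V₃} (hW : Module.finrank F W = 2) (hW' : Module.finrank F W' = 2)
    {v u : V₃} (hli : LinearIndependent F ![v, u]) (h1 : v ∈ W) (h2 : u ∈ W) (h3 : v ∈ W') (h4 : u ∈ W') :
    W = W' := by
  have hle : ∀ U : Submodule F V₃, v ∈ U → u ∈ U → Module.finrank F U = 2 →
      Submodule.span F (Set.range ![v, u]) = U := by
    intro U a b hU
    refine Submodule.eq_of_le_of_finrank_le (Submodule.span_le.mpr ?_) ?_
    · rintro _ ⟨i, rfl⟩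
      fin_cases i
      · exact a
      · exact b
    · rw [hU, finrank_span_eq_card hli, Fintype.card_fin]
  rw [← hle W h1 h2 hW, hle W' h3 h4 hW']

omit hK in
theorem exists_coeffs {W : Submodule F V₃} (hW : Module.finrank F W = 2) {v u u' : V₃}
    (hli : LinearIndependent F ![v, u]) (h1 : v ∈ W) (h2 : u ∈ W) (h3 : u' ∈ W) :
    ∃ x y : F, u' = x • v + y • u := by
  have he : Submodule.span F (Set.range ![v, u]) = W := by
    refine Submodule.eq_of_le_of_finrank_le (Submodule.span_le.mpr ?_) ?_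
    · rintro _ ⟨i, rfl⟩
      fin_cases i
      · exact h1
      · exact h2
    · rw [hW, finrank_span_eq_card hli, Fintype.card_fin]
  rw [← he] at h3
  obtain ⟨c, hc⟩ := (Submodule.mem_span_range_iff_exists_fun F).mp h3
  exact ⟨c 0, c 1, by rw [← hc, Fin.sum_univ_two]; simp⟩

omit hK in
theorem line_eq_iff {x y : V₃} (hy : y ≠ 0) (h : y ∈ Submodule.span F ({x} : Set V₃)) :
    Submodule.span F ({y} : Set V₃) = Submodule.span F {x} := by
  obtain ⟨c, rfl⟩ := Submodule.mem_span_singleton.mp h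
  exact Submodule.span_singleton_smul_eq (IsUnit.mk0 c (fun e => hy (by rw [e, zero_smul]))) x

omit hK in
theorem mem_of_line_eq {x y : V₃} (h : Ln x = Ln y) : ∃ c : F, c • y = x :=
  Submodule.mem_span_singleton.mp (by
    have := Submodule.mem_span_singleton_self (R := F) x
    rw [show Submodule.span F ({x} : Set V₃) = Submodule.span F {y} from h] at this
    exact this)

omit hK

/-- The stabiliser of the point. -/
def pointStab (H : Subgroup (GL (Fin 3) F)) (v : V₃) : Set (GL (Fin 3) F) :=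
  {g | g ∈ H ∧ ∃ c : F, (g : M₃) *ᵥ v = c • v}

theorem card_pointStab (h : Over K H) (hq : q = 16) {v : V₃} (hv0 : v ≠ 0)
    (hO : ∀ g ∈ H, ∀ x, Same h.isField v x → Same h.isField v ((g : M₃) *ᵥ x))
    (W : Fin 3 → Submodule F V₃) (hW : ∀ i, Module.finrank F (W i) = 2) (hvW : ∀ i, v ∈ W i)
    (hinj : Function.Injective W) (hN : ∀ i, N h.isField (W i) v = 3)
    (hperm : ∀ g ∈ H, (g : M₃) *ᵥ v ∈ Submodule.span F {v} → ∀ i, ∃ j, ∀ x ∈ W i, (g : M₃) *ᵥ x ∈ W j) :
    Nat.card (pointStab H v) ≤ 108 := by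
  classical
  have hK := h.isField
  -- the lines of the class in a plane
  set I : Fin 3 → Finset (Submodule F V₃) := fun i => (cl hK (W i) v).image Ln with hI
  have hIc : ∀ i, (I i).card = 3 := fun i => by
    have := hN i
    unfold N at this
    convert this
  have hvI : ∀ i, Ln v ∈ I i := fun i =>
    mem_image_of_mem _ ((mem_cl hK).mpr ⟨hvW i, hv0, Same.refl hK v⟩)
  set D : Finset (Submodule F V₃) := univ.biUnion fun i => (I i).erase (Ln v) with hD
  have hDc : D.card ≤ 6 := by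
    refine card_biUnion_le.trans (le_of_eq ?_)
    rw [sum_congr rfl fun i _ => by rw [card_erase_of_mem (hvI i), hIc i]]
    simp
  -- two special points on each plane
  have hpts : ∀ i, ∃ u u', u ∈ cl hK (W i) v ∧ u' ∈ cl hK (W i) v ∧ Ln u ≠ Ln v ∧ Ln u' ≠ Ln v ∧
      Ln u ≠ Ln u' ∧ ∀ L ∈ I i, L = Ln v ∨ L = Ln u ∨ L = Ln u' := by
    intro i
    obtain ⟨L, L', hne, he⟩ := card_eq_two.mp (show ((I i).erase (Ln v)).card = 2 by
      rw [card_erase_of_mem (hvI i), hIc i])
    have hL : L ∈ (I i).erase (Ln v) := by rw [he]; simp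
    have hL' : L' ∈ (I i).erase (Ln v) := by rw [he]; simp
    obtain ⟨u, hu, rfl⟩ := mem_image.mp (mem_erase.mp hL).2
    obtain ⟨u', hu', rfl⟩ := mem_image.mp (mem_erase.mp hL').2
    refine ⟨u, u', hu, hu', (mem_erase.mp hL).1, (mem_erase.mp hL').1, hne, fun M hM => ?_⟩
    by_cases hMv : M = Ln v
    · exact Or.inl hMv
    · have : M ∈ ({Ln u, Ln u'} : Finset _) := he ▸ mem_erase.mpr ⟨hMv, hM⟩
      simp only [mem_insert, mem_singleton] at this
      exact Or.inr this
  choose u u' hu hu' huv huv' huu hall using hpts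
  have hne0 : ∀ {i x}, x ∈ cl hK (W i) v → x ≠ 0 := fun hx => ((mem_cl hK).mp hx).2.1
  have hmW : ∀ {i x}, x ∈ cl hK (W i) v → x ∈ W i := fun hx => ((mem_cl hK).mp hx).1
  have hli2 : ∀ {i x}, x ∈ cl hK (W i) v → Ln x ≠ Ln v → LinearIndependent F ![v, x] := by
    intro i x hx hne
    rw [LinearIndependent.pair_iff' hv0]
    intro a e
    exact hne (line_eq_iff (hne0 hx) (Submodule.mem_span_singleton.mpr ⟨a, e⟩))
  -- a plane is determined by one of its special points
  have hplane : ∀ {i j x}, x ∈ cl hK (W i) v → Ln x ≠ Ln v → x ∈ W j → i = j := fun hx hne hxj =>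
    hinj (eq_span_of_mem (hW _) (hW _) (hli2 hx hne) (hvW _) (hmW hx) (hvW _) hxj)
  -- images
  have himg : ∀ g ∈ H, (∃ c : F, (g : M₃) *ᵥ v = c • v) → ∀ i, ∃ j, ∀ x ∈ cl hK (W i) v, Ln x ≠ Ln v →
      (g : M₃) *ᵥ x ∈ cl hK (W j) v ∧ Ln ((g : M₃) *ᵥ x) ≠ Ln v := by
    intro g hg hgv i
    obtain ⟨j, hj⟩ := hperm g hg (Submodule.mem_span_singleton.mpr (hgv.imp fun c e => e.symm)) i
    obtain ⟨c, hc⟩ := hgv
    refine ⟨j, fun x hx hne => ?_⟩
    obtain ⟨hxW, hx0, hxs⟩ := (mem_cl hK).mp hx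
    have hinjg := Matrix.mulVec_injective_iff_isUnit.mpr g.isUnit
    have hgx : (g : M₃) *ᵥ x ≠ 0 := fun e => hx0 (hinjg (e.trans (mulVec_zero _).symm))
    refine ⟨(mem_cl hK).mpr ⟨hj x hxW, hgx, hO g hg x hxs⟩, fun e => hne ?_⟩
    have hc0 : c ≠ 0 := fun e0 => hv0 (hinjg (by rw [hc, e0, zero_smul]; exact (mulVec_zero _).symm))
    obtain ⟨d, hd⟩ := mem_of_line_eq e
    refine line_eq_iff hx0 (Submodule.mem_span_singleton.mpr ⟨d / c, ?_⟩)
    refine hinjg ?_
    show (g : M₃) *ᵥ ((d / c) • v) = (g : M₃) *ᵥ x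
    rw [mulVec_smul, hc, smul_smul, div_mul_cancel₀ _ hc0, hd]
  set Φ : GL (Fin 3) F → Submodule F V₃ × Submodule F V₃ :=
    fun g => (Ln ((g : M₃) *ᵥ u 0), Ln ((g : M₃) *ᵥ u 1)) with hΦ
  set S : Finset (GL (Fin 3) F) := univ.filter fun g => g ∈ pointStab H v with hS
  have hSc : Nat.card (pointStab H v) = S.card := by
    rw [← Nat.card_eq_finsetCard]
    exact Nat.card_congr (Equiv.subtypeEquivRight fun g => by simp [hS])
  rw [hSc]
  have him : S.image Φ ⊆ D ×ˢ D := by
    intro p hp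
    obtain ⟨g, hg, rfl⟩ := mem_image.mp hp
    obtain ⟨hgH, hgv⟩ := (mem_filter.mp hg).2
    have : ∀ i, Ln ((g : M₃) *ᵥ u i) ∈ D := fun i => by
      obtain ⟨j, hj⟩ := himg g hgH hgv i
      obtain ⟨h1, h2⟩ := hj _ (hu i) (huv i)
      exact mem_biUnion.mpr ⟨j, mem_univ _, mem_erase.mpr ⟨h2, mem_image_of_mem _ h1⟩⟩
    exact mem_product.mpr ⟨this 0, this 1⟩
  refine (card_le_mul_card_image (f := Φ) S 3 fun p hp => ?_).trans ?_
  swap
  · have h1 := (card_le_card him).trans (le_of_eq (card_product D D))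
    have h2 := Nat.mul_le_mul hDc hDc
    omega
  obtain ⟨g', hg', rfl⟩ := mem_image.mp hp
  obtain ⟨hg'H, hg'v⟩ := (mem_filter.mp hg').2
  -- the fibre consists of scalar multiples
  have hfib : ∀ g ∈ S.filter (fun g => Φ g = Φ g'), ∃ a : Fˣ, g = g' * sc a ∧ a ^ 3 = 1 := by
    intro g hg
    obtain ⟨hgS, hgΦ⟩ := mem_filter.mp hg
    obtain ⟨hgH, hgv⟩ := (mem_filter.mp hgS).2
    set r := g'⁻¹ * g with hr
    have hrm : ∀ x y : V₃, ∀ c : F, (g : M₃) *ᵥ x = c • ((g' : M₃) *ᵥ y) → (r : M₃) *ᵥ x = c • y := by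
      intro x y c e
      rw [hr, Units.val_mul, ← mulVec_mulVec, e, mulVec_smul, mulVec_mulVec, ← Units.val_mul, inv_mul_cancel,
        Units.val_one, one_mulVec]
    have hline : ∀ x : V₃, Ln ((g : M₃) *ᵥ x) = Ln ((g' : M₃) *ᵥ x) → ∃ c : F, (r : M₃) *ᵥ x = c • x := by
      intro x e
      obtain ⟨c, hc⟩ := mem_of_line_eq e
      exact ⟨c, hrm x x c hc.symm⟩
    obtain ⟨a, ha⟩ : ∃ a : F, (r : M₃) *ᵥ v = a • v := by
      obtain ⟨c, hc⟩ := hgv
      obtain ⟨c', hc'⟩ := hg'v
      have hc0 : c' ≠ 0 := fun e0 => hv0 (Matrix.mulVec_injective_iff_isUnit.mpr g'.isUnit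
        (by rw [hc', e0, zero_smul]; exact (mulVec_zero _).symm))
      exact ⟨c / c', hrm v v _ (by rw [hc, hc', smul_smul, div_mul_cancel₀ _ hc0])⟩
    have hboth : ∀ i, (i = 0 ∨ i = 1) → (∃ c : F, (r : M₃) *ᵥ u i = c • u i) ∧
        ∃ c : F, (r : M₃) *ᵥ u' i = c • u' i := by
      intro i hi
      have e : Ln ((g : M₃) *ᵥ u i) = Ln ((g' : M₃) *ᵥ u i) := by
        rcases hi with rfl | rfl
        · exact congrArg Prod.fst hgΦ
        · exact congrArg Prod.snd hgΦ
      refine ⟨hline _ e, hline _ ?_⟩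
      obtain ⟨j, hj⟩ := himg g hgH hgv i
      obtain ⟨j', hj'⟩ := himg g' hg'H hg'v i
      obtain ⟨a1, a2⟩ := hj _ (hu i) (huv i)
      obtain ⟨b1, b2⟩ := hj' _ (hu i) (huv i)
      have hjj : j = j' := hplane a1 a2 (by
        obtain ⟨c, hc⟩ := mem_of_line_eq e
        rw [← hc]; exact (W j').smul_mem c (hmW b1))
      subst hjj
      obtain ⟨c1, c2⟩ := hj _ (hu' i) (huv' i)
      obtain ⟨d1, d2⟩ := hj' _ (hu' i) (huv' i)
      -- distinct lines stay distinct
      have hsep : ∀ f : GL (Fin 3) F, Ln ((f : M₃) *ᵥ u i) ≠ Ln ((f : M₃) *ᵥ u' i) := fun f e' => by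
        obtain ⟨c, hc⟩ := mem_of_line_eq e' 
        refine huu i (line_eq_iff (hne0 (hu i)) (Submodule.mem_span_singleton.mpr ⟨c, ?_⟩))
        exact Matrix.mulVec_injective_iff_isUnit.mpr f.isUnit (by rw [mulVec_smul]; exact hc)
      have s1 := hsep g
      have s2 := hsep g'
      rcases hall j _ (mem_image_of_mem _ a1) with ea | ea | ea
      · exact absurd ea a2
      all_goals
        rcases hall j _ (mem_image_of_mem _ c1) with eb | eb | eb
        · exact absurd eb c2
        all_goals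
          rcases hall j _ (mem_image_of_mem _ d1) with ec | ec | ec
          · exact absurd ec d2
          all_goals
            first
              | exact eb.trans ec.symm
              | exact absurd (ea.trans eb.symm) s1
              | exact absurd ((e.symm.trans ea).trans ec.symm) s2
    obtain ⟨⟨b, hb⟩, c, hc⟩ := hboth 0 (Or.inl rfl)
    obtain ⟨⟨b', hb'⟩, c', hc'⟩ := hboth 1 (Or.inr rfl)
    obtain ⟨x, y, hxy⟩ := exists_coeffs (hW 0) (hli2 (hu 0) (huv 0)) (hvW 0) (hmW (hu 0)) (hmW (hu' 0))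
    obtain ⟨x', y', hxy'⟩ := exists_coeffs (hW 1) (hli2 (hu 1) (huv 1)) (hvW 1) (hmW (hu 1)) (hmW (hu' 1))
    have hcoef : ∀ i, ∀ x y : F, u' i = x • v + y • u i → x ≠ 0 ∧ y ≠ 0 := by
      intro i x y e
      refine ⟨fun x0 => huu i (line_eq_iff (hne0 (hu' i)) (Submodule.mem_span_singleton.mpr ⟨y, ?_⟩)).symm,
        fun y0 => huv' i (line_eq_iff (hne0 (hu' i)) (Submodule.mem_span_singleton.mpr ⟨x, ?_⟩))⟩
      · rw [e, x0, zero_smul, zero_add]
      · rw [e, y0, zero_smul, add_zero]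
    have hli : LinearIndependent F ![v, u 0, u 1] := by
      rw [Fintype.linearIndependent_iff]
      intro d hd
      rw [Fin.sum_univ_three] at hd
      simp only [Matrix.cons_val_zero, Matrix.cons_val_one, Matrix.cons_val] at hd
      have h2 : d 2 = 0 := by
        by_contra h2
        have hm : u 1 ∈ W 0 := by
          have e2 : u 1 = (d 2)⁻¹ • (-(d 0 • v) - d 1 • u 0) := by
            rw [eq_inv_smul_iff₀ h2, eq_comm, ← sub_eq_zero, ← neg_eq_zero, ← hd]
            abel
          rw [e2]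
          exact (W 0).smul_mem _ ((W 0).sub_mem ((W 0).neg_mem ((W 0).smul_mem _ (hvW 0)))
            ((W 0).smul_mem _ (hmW (hu 0))))
        exact absurd (hplane (hu 1) (huv 1) hm) (by decide)
      rw [h2, zero_smul, add_zero] at hd
      have := LinearIndependent.pair_iff.mp (hli2 (hu 0) (huv 0)) (d 0) (d 1) hd
      exact fun i => by fin_cases i <;> simp [this.1, this.2, h2]
    have hrA := scalar_of_lines hK hli (hcoef 0 x y hxy).1 (hcoef 0 x y hxy).2 (hcoef 1 x' y' hxy').1
      (hcoef 1 x' y' hxy').2 hxy hxy' ha hb hc hb' hc'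
    have hdet : (r : M₃).det = 1 := det_of_mem (mul_mem (inv_mem (h.le hg'H)) (h.le hgH))
    rw [hrA, det_smul, det_one, mul_one, Fintype.card_fin] at hdet
    have a0 : a ≠ 0 := fun e0 => by simp [e0] at hdet
    refine ⟨Units.mk0 a a0, ?_, Units.ext (by rw [Units.val_pow_eq_pow_val]; exact hdet)⟩
    rw [show sc (Units.mk0 a a0) = r from Units.ext (by rw [sc_coe, hrA, Units.val_mk0]), hr, mul_inv_cancel_left]
  choose f hf hf3 using hfib
  refine le_trans ?_ (card_rootsOfUnity F 3)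
  rw [← Nat.card_eq_finsetCard]
  refine Nat.card_le_card_of_injective (fun g => (⟨f g.1 g.2, hf3 g.1 g.2⟩ : rootsOfUnity 3 F)) fun g k e => ?_
  refine Subtype.ext ?_
  rw [hf g.1 g.2, hf k.1 k.2]
  exact congrArg (fun a => g' * sc a) (congrArg Subtype.val e)

theorem card_le (h : Over K H) (hq : q = 16) {v : V₃} (hv0 : v ≠ 0)
    (hO : ∀ g ∈ H, ∀ x, Same h.isField v x → Same h.isField v ((g : M₃) *ᵥ x))
    (W : Fin 3 → Submodule F V₃) (hW : ∀ i, Module.finrank F (W i) = 2) (hvW : ∀ i, v ∈ W i)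
    (hinj : Function.Injective W) (hN : ∀ i, N h.isField (W i) v = 3)
    (hperm : ∀ g ∈ H, (g : M₃) *ᵥ v ∈ Submodule.span F {v} → ∀ i, ∃ j, ∀ x ∈ W i, (g : M₃) *ᵥ x ∈ W j) :
    Nat.card H ≤ 9828 := by
  classical
  have hK := h.isField
  set S : Finset (GL (Fin 3) F) := univ.filter fun g => g ∈ H with hS
  have hSc : Nat.card H = S.card := by
    rw [← Nat.card_eq_finsetCard]
    exact Nat.card_congr (Equiv.subtypeEquivRight fun g => by simp [hS])
  rw [hSc]
  have him : (S.image fun g : GL (Fin 3) F => Ln ((g : M₃) *ᵥ v)) ⊆ (cl hK ⊤ v).image Ln := by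
    intro L hL
    obtain ⟨g, hg, rfl⟩ := mem_image.mp hL
    refine mem_image_of_mem Ln ((mem_cl hK).mpr ⟨Submodule.mem_top, fun e => hv0 ?_,
      hO g (mem_filter.mp hg).2 v (Same.refl hK v)⟩)
    exact Matrix.mulVec_injective_iff_isUnit.mpr g.isUnit (e.trans (mulVec_zero _).symm)
  refine (card_le_mul_card_image (f := fun g : GL (Fin 3) F => Ln ((g : M₃) *ᵥ v)) S 108 fun p hp => ?_).trans ?_
  swap
  · have h1 := card_le_card him
    have h91 : ((cl hK ⊤ v).image Ln).card = 91 := by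
      have := card_points hK hq hv0 (hW 0) (hN 0)
      unfold N at this
      convert this
    omega
  obtain ⟨g', hg', rfl⟩ := mem_image.mp hp
  refine le_trans ?_ (card_pointStab h hq hv0 hO W hW hvW hinj hN hperm)
  rw [← Nat.card_eq_finsetCard]
  refine Nat.card_le_card_of_injective (fun g => (⟨g'⁻¹ * g.1, ?_⟩ : pointStab H v)) fun g k e => ?_
  · obtain ⟨hgS, hge⟩ := mem_filter.mp g.2
    refine ⟨mul_mem (inv_mem (mem_filter.mp hg').2) (mem_filter.mp hgS).2, ?_⟩
    obtain ⟨c, hc⟩ := mem_of_line_eq hge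
    exact ⟨c, by rw [Units.val_mul, ← mulVec_mulVec, ← hc, mulVec_smul, mulVec_mulVec, ← Units.val_mul,
      inv_mul_cancel, Units.val_one, one_mulVec]⟩
  · exact Subtype.ext (mul_left_cancel (congrArg Subtype.val e))

include hK in
/-- The determinant-one units of the field, and an element of order thirteen among them. -/
theorem field_part (hq : q = 16) :
    273 ≤ Nat.card ↥(KU hK ⊓ SL₃F) ∧ ∃ c ∈ KU hK ⊓ SL₃F, c ^ 13 = 1 ∧ c ≠ 1 := by
  classical
  set d : KU hK →* Fˣ := Matrix.GeneralLinearGroup.det.comp (KU hK).subtype with hd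
  have hker : d.ker = (KU hK ⊓ SL₃F).subgroupOf (KU hK) := by
    ext g
    rw [Subgroup.mem_subgroupOf]
    exact ⟨fun hg => ⟨g.2, hg⟩, fun hg => hg.2⟩
  have hcard : Nat.card d.ker = Nat.card ↥(KU hK ⊓ SL₃F) := by
    rw [hker]; exact Nat.card_congr (Subgroup.subgroupOfEquivOfLe inf_le_left).toEquiv
  have hc := Subgroup.card_mul_index d.ker
  rw [Subgroup.index_ker] at hc
  have hr := Subgroup.card_subgroup_dvd_card d.range
  rw [Nat.card_eq_fintype_card (α := Fˣ), Fintype.card_units, hq] at hr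
  obtain ⟨e, -⟩ := exists_orbit_equiv hK (show (Pi.single 0 1 : V₃) ≠ 0 by simp)
  have hv : Nat.card {x : V₃ // x ≠ 0} = 4095 := by
    rw [Nat.card_eq_fintype_card, Fintype.card_subtype_compl, Fintype.card_subtype_eq, Fintype.card_fun,
      Fintype.card_fin, hq]
    norm_num
  rw [Nat.card_congr e, hcard, hv] at hc
  set C := Nat.card ↥(KU hK ⊓ SL₃F) with hC
  set R := Nat.card ↥d.range with hR
  have hR15 : R ≤ 15 := Nat.le_of_dvd (by norm_num) hr
  refine ⟨by have := Nat.mul_le_mul_left C hR15; nlinarith, ?_⟩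
  have h13 : (13 : ℕ) ∣ C := by
    have hcop : Nat.Coprime 13 R := by
      refine Nat.Coprime.coprime_dvd_right hr ?_
      norm_num
    exact hcop.dvd_of_dvd_mul_right (by rw [hc]; norm_num)
  haveI : Fact (Nat.Prime 13) := ⟨by norm_num⟩
  obtain ⟨c, hc'⟩ := exists_prime_orderOf_dvd_card' (G := ↥(KU hK ⊓ SL₃F)) 13 h13
  refine ⟨c, c.2, ?_, ?_⟩
  · rw [← hc', ← Subgroup.coe_pow, pow_orderOf_eq_one, Subgroup.coe_one]
  · intro e1
    have : c = 1 := Subtype.ext e1
    rw [this, orderOf_one] at hc'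
    omega

include hK in
/-- The determinant-one normaliser is three times as large as its part in the field. -/
theorem normalizer_part :
    3 * Nat.card ↥(KU hK ⊓ SL₃F) ≤ Nat.card ↥(Cfsg.Geo.subalgebraNormalizer K ⊓ SL₃F) := by
  classical
  obtain ⟨t, ht, Ψ, hΨ⟩ := LinClasses.Singer.exists_cyclic_normalizer Nat.prime_three hK
  set P := LinearMap.toMatrix' (Ψ : V₃ →ₗ[F] V₃) with hP
  have hPP : IsUnit P.det := by
    rw [LinearMap.det_toMatrix']; exact LinearEquiv.isUnit_det' Ψ
  have htP : (t : M₃) * P = P * LinClasses.Singer.cycShift F 3 := by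
    refine Matrix.toLin'.injective (LinearMap.ext fun w => ?_)
    simp only [Matrix.toLin'_apply, ← mulVec_mulVec, hP, LinearMap.toMatrix'_mulVec]
    exact hΨ w
  have hdet : (t : M₃).det = 1 := by
    have := congrArg Matrix.det htP
    rw [det_mul, det_mul, mul_comm P.det] at this
    rw [hPP.mul_right_cancel this]
    simp [det_fin_three, LinClasses.Singer.cycShift]
  have hP' : IsUnit P := (Matrix.isUnit_iff_isUnit_det P).mpr hPP
  have hcube : t ^ 3 = 1 := by
    refine Units.ext (hP'.mul_right_cancel ?_)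
    rw [Units.val_one, one_mul, Units.val_pow_eq_pow_val]
    have e : ∀ k : ℕ, (t : M₃) ^ k * P = P * LinClasses.Singer.cycShift F 3 ^ k := by
      intro k
      induction k with
      | zero => simp
      | succ k ih => rw [pow_succ', mul_assoc, ih, ← mul_assoc, htP, mul_assoc, ← pow_succ']
    rw [e, LinClasses.Singer.cycShift_pow, mul_one]
  have hns : NS (t : M₃) := by
    intro c e
    rw [e, smul_mul_assoc, one_mul] at htP
    have h2 : LinClasses.Singer.cycShift F 3 = c • 1 := hP'.mul_left_cancel (by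
      rw [← htP, mul_smul_comm, mul_one])
    have := congrFun (congrFun h2 1) 0
    simp [LinClasses.Singer.cycShift] at this
  have htK : (t : M₃) ∉ K := by
    intro hm
    have e : ((t : M₃) - 1) * ((t : M₃) * t + t + 1) = 0 := by
      have h3 : (t : M₃) * t * t = 1 := by
        rw [← Units.val_mul, ← Units.val_mul, ← Units.val_one, ← hcube, pow_succ, pow_two]
      have : ((t : M₃) - 1) * ((t : M₃) * t + t + 1) = (t : M₃) * t * t - 1 := by noncomm_ring
      rw [this, h3, sub_self]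
    have hm2 : (t : M₃) * t + t + 1 ∈ K := K.add_mem (K.add_mem (K.mul_mem hm hm) hm) K.one_mem
    by_cases h1 : (t : M₃) * t + t + 1 = 0
    · have := quad hK hm hns (a := 1) (b := 1) (c := 1) (by simpa using h1)
      exact one_ne_zero this.1
    · obtain ⟨j, -, hj⟩ := hK.inv _ hm2 h1
      have h2 : ((t : M₃) - 1) = 0 :=
        calc (t : M₃) - 1 = ((t : M₃) - 1) * (((t : M₃) * t + t + 1) * j) := by rw [hj, mul_one]
          _ = 0 := by rw [← mul_assoc, e, zero_mul]
      exact hns 1 (by rw [one_smul]; exact sub_eq_zero.mp h2)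
  set C := KU hK ⊓ SL₃F with hC
  set M := Cfsg.Geo.subalgebraNormalizer K ⊓ SL₃F with hM
  have htM : t ∈ M := ⟨ht, Units.ext (by rw [Matrix.GeneralLinearGroup.val_det_apply, hdet, Units.val_one])⟩
  have hCM : C ≤ M := fun g hg => ⟨unit_mem_normalizer hK hg.1, hg.2⟩
  have htC : t ∉ C := fun hh => htK hh.1
  have ht2 : t ^ 2 ∉ C := fun hh => htC (by
    have : t = (t ^ 2)⁻¹ := by
      rw [eq_inv_iff_mul_eq_one, ← pow_succ', hcube]
    rw [this]; exact inv_mem hh)
  rw [show 3 * Nat.card C = Nat.card (Fin 3 × C) by rw [Nat.card_prod, Nat.card_fin]]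
  refine Nat.card_le_card_of_injective
    (fun p : Fin 3 × C => (⟨t ^ (p.1 : ℕ) * (p.2 : GL (Fin 3) F), mul_mem (pow_mem htM _) (hCM p.2.2)⟩ : M)) ?_
  rintro ⟨i, a⟩ ⟨j, b⟩ e
  have e' : t ^ (i : ℕ) * (a : GL (Fin 3) F) = t ^ (j : ℕ) * b := congrArg Subtype.val e
  have hd : (t ^ (j : ℕ))⁻¹ * t ^ (i : ℕ) ∈ C := by
    rw [show (t ^ (j : ℕ))⁻¹ * t ^ (i : ℕ) = (b : GL (Fin 3) F) * (a : GL (Fin 3) F)⁻¹ by
      rw [inv_mul_eq_iff_eq_mul, ← mul_assoc, ← e', mul_inv_cancel_right]]
    exact mul_mem b.2 (inv_mem a.2)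
  have hd' := inv_mem hd
  have hij : i = j := by
    fin_cases i <;> fin_cases j <;> first | rfl | (exfalso; revert hd hd'; simp [inv_inv, pow_two]; intros; simp_all [pow_two])
  subst hij
  exact Prod.ext rfl (Subtype.ext (mul_left_cancel e'))

end Sixteen

open Sixteen in
/-- With sixteen field elements the overgroup normalises the field. -/
theorem le_normalizer_sixteen (h : Over K H) (hq : Fintype.card F = 16) {v : Fin 3 → F} (hv0 : v ≠ 0)
    (hO : ∀ g ∈ H, ∀ x, Same h.isField v x → Same h.isField v ((g : Matrix (Fin 3) (Fin 3) F) *ᵥ x))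
    (W : Fin 3 → Submodule F (Fin 3 → F)) (hW : ∀ i, Module.finrank F (W i) = 2) (hvW : ∀ i, v ∈ W i)
    (hinj : Function.Injective W) (hN : ∀ i, N h.isField (W i) v = 3)
    (hperm : ∀ g ∈ H, (g : Matrix (Fin 3) (Fin 3) F) *ᵥ v ∈ Submodule.span F {v} →
      ∀ i, ∃ j, ∀ x ∈ W i, (g : Matrix (Fin 3) (Fin 3) F) *ᵥ x ∈ W j) :
    H ≤ Cfsg.Geo.subalgebraNormalizer K := by
  classical
  have hK := h.isField
  set M := Cfsg.Geo.subalgebraNormalizer K ⊓ SL₃F with hM
  have hH := card_le h hq hv0 hO W hW hvW hinj hN hperm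
  obtain ⟨h273, c, hcC, hc13, hc1⟩ := field_part hK hq
  have hn3 : 3 * Nat.card ↥(KU hK ⊓ SL₃F) ≤ Nat.card ↥M := normalizer_part hK
  set M' := M.subgroupOf H with hM'
  have hidx : M'.index < 13 := by
    have := Subgroup.card_mul_index M'
    rw [show Nat.card ↥M' = Nat.card ↥M from
      Nat.card_congr (Subgroup.subgroupOfEquivOfLe (show M ≤ H from h.contains)).toEquiv] at this
    by_contra hlt
    push Not at hlt
    have h2 : 819 * 13 ≤ Nat.card M * M'.index := Nat.mul_le_mul (by omega) hlt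
    omega
  have hcH : c ∈ H := h.unit_mem hcC.1 hcC.2
  have hns : NS (c : M₃) := by
    intro a ha
    have hd := det_of_mem hcC.2
    rw [ha, det_smul, det_one, mul_one, Fintype.card_fin] at hd
    have e13 : ((c ^ 13 : GL (Fin 3) F) : M₃) = (a ^ 13) • 1 := by
      rw [Units.val_pow_eq_pow_val, ha, smul_pow, one_pow]
    rw [hc13, Units.val_one] at e13
    have e := congrFun (congrFun e13 0) 0
    simp at e
    have h13a : a ^ 13 = a := by
      rw [show 13 = 3 * 4 + 1 by norm_num, pow_succ, pow_mul, hd, one_pow, one_mul]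
    have : a = 1 := h13a.symm.trans e.symm
    exact hc1 (Units.ext (by rw [ha, this, one_smul, Units.val_one]))
  -- `c` fixes every coset
  haveI : Fintype (↥H ⧸ M') := Fintype.ofFinite _
  have hfix : ∀ g : ↥H, g⁻¹ * ⟨c, hcH⟩ * g ∈ M' := by
    set σ := MulAction.toPermHom (↥H) (↥H ⧸ M') ⟨c, hcH⟩ with hσ
    have hσ13 : σ ^ 13 = 1 := by
      rw [hσ, ← map_pow, show (⟨c, hcH⟩ : ↥H) ^ 13 = 1 from Subtype.ext hc13, map_one]
    have hσ1 : σ = 1 := by
      have h13p : Nat.Prime 13 := by norm_num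
      rcases (Nat.dvd_prime h13p).mp (orderOf_dvd_of_pow_eq_one hσ13) with h1 | h1
      · exact orderOf_eq_one_iff.mp h1
      · exfalso
        have := orderOf_dvd_card (x := σ)
        rw [h1, Fintype.card_perm, h13p.dvd_factorial, ← Nat.card_eq_fintype_card, ← Subgroup.index_eq_card] at this
        omega
    intro g
    have : σ (g : ↥H ⧸ M') = (g : ↥H ⧸ M') := by rw [hσ1]; rfl
    have e : (((⟨c, hcH⟩ : ↥H) * g : ↥H) : ↥H ⧸ M') = (g : ↥H ⧸ M') := this
    have := QuotientGroup.eq.mp e.symm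
    rwa [← mul_assoc] at this
  intro g hg
  have hx : g⁻¹ * c * g ∈ M := Subgroup.mem_subgroupOf.mp (hfix ⟨g, hg⟩)
  have hxK : ((g⁻¹ * c * g : GL (Fin 3) F) : M₃) ∈ K := by
    refine mem_of_pow_thirteen hK hx.1 ?_
    calc (g⁻¹ * c * g) ^ 13 = g⁻¹ * c ^ 13 * g := by simpa using conj_pow (a := g⁻¹) (b := c) (i := 13)
      _ = 1 := by rw [hc13, mul_one, inv_mul_cancel]
  have hxns : NS ((g⁻¹ * c * g : GL (Fin 3) F) : M₃) := by
    intro a ha
    refine hns a ?_
    have : c = g * (g⁻¹ * c * g) * g⁻¹ := by group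
    rw [this, Units.val_mul, Units.val_mul, ha, mul_smul_comm, mul_one, smul_mul_assoc, ← Units.val_mul,
      mul_inv_cancel, Units.val_one]
  set G' := ((g⁻¹ : GL (Fin 3) F) : M₃) with hG'
  have hgg : (g : M₃) * G' = 1 := by rw [hG', ← Units.val_mul, mul_inv_cancel, Units.val_one]
  have hg'g : G' * (g : M₃) = 1 := by rw [hG', ← Units.val_mul, inv_mul_cancel, Units.val_one]
  rw [Units.val_mul, Units.val_mul] at hxK hxns
  intro k
  constructor
  · intro hk
    refine mem_of_commute_one hK hcC.1 hns ?_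
    have e := hK.comm _ hk _ hxK
    calc (g : M₃) * k * G' * (c : M₃) = (g : M₃) * (k * (G' * c * g)) * G' := by
          simp only [mul_assoc, hgg, mul_one]
      _ = (g : M₃) * (G' * c * g * k) * G' := by rw [e]
      _ = (c : M₃) * ((g : M₃) * k * G') := by
          simp only [← mul_assoc, hgg, one_mul]
  · intro hk
    refine mem_of_commute_one hK hxK hxns ?_
    have e := hK.comm _ hk _ hcC.1
    calc k * (G' * (c : M₃) * g) = G' * ((g : M₃) * k * G' * c) * g := by
          simp only [← mul_assoc, hg'g, one_mul]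
      _ = G' * ((c : M₃) * ((g : M₃) * k * G')) * g := by rw [e]
      _ = G' * (c : M₃) * g * k := by
          simp only [mul_assoc, hg'g, mul_one]

end Cfsg.Agent.Lib.SLThree78.Singer
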