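import Cfsg.Agent.Lib.SLThree78.Singer.Setup

/-!
Solvable overgroups of the normaliser of a cubic field in `SL₃`.
-/

set_option autoImplicit false
set_option linter.unusedSectionVars false

namespace Cfsg.Agent.Lib.SLThree78.Singer

open Matrix
open scoped commutatorElement

variable {F : Type*} [Field F] [Fintype F] {K : Subalgebra F (Matrix (Fin 3) (Fin 3) F)}
  (hK : Cfsg.Geo.IsFieldSubalgebra 3 K)

local notation "V₃" => (Fin 3 → F)
local notation "M₃" => Matrix (Fin 3) (Fin 3) F
local notation "q" => Fintype.card F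

/-- Conjugation of a matrix. -/
def cj (g : GL (Fin 3) F) (A : M₃) : M₃ := (g : M₃) * A * ((g⁻¹ : GL (Fin 3) F) : M₃)

theorem cj_one (A : M₃) : cj (1 : GL (Fin 3) F) A = A := by simp [cj]

theorem cj_mul (g h : GL (Fin 3) F) (A : M₃) : cj (g * h) A = cj g (cj h A) := by
  simp [cj, mul_assoc]

theorem cj_inv_cj (g : GL (Fin 3) F) (A : M₃) : cj g⁻¹ (cj g A) = A := by
  rw [← cj_mul, inv_mul_cancel, cj_one]

theorem cj_map_mul (g : GL (Fin 3) F) (A B : M₃) : cj g (A * B) = cj g A * cj g B := by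
  simp [cj, mul_assoc]

theorem cj_add (g : GL (Fin 3) F) (A B : M₃) : cj g (A + B) = cj g A + cj g B := by
  simp [cj, mul_add, add_mul]

theorem cj_smul (g : GL (Fin 3) F) (a : F) (A : M₃) : cj g (a • A) = a • cj g A := by
  simp [cj]

theorem cj_scalar (g : GL (Fin 3) F) (a : F) : cj g (a • (1 : M₃)) = a • 1 := by
  simp [cj]

theorem cj_unit (g x : GL (Fin 3) F) : cj g (x : M₃) = ((g * x * g⁻¹ : GL (Fin 3) F) : M₃) := by
  simp [cj]

theorem commute_of_cj {g : GL (Fin 3) F} {A : M₃} (h : cj g A = A) : A * (g : M₃) = (g : M₃) * A := by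
  conv_lhs => rw [← h]
  simp [cj, mul_assoc]

theorem pow_cj_mem {E : Subalgebra F M₃} {c : GL (Fin 3) F} (hc : ∀ A ∈ E, cj c A ∈ E) :
    ∀ (i : ℕ), ∀ A ∈ E, cj (c ^ i) A ∈ E := by
  intro i
  induction i with
  | zero => intro A hA; rwa [pow_zero, cj_one]
  | succ i ih => intro A hA; rw [pow_succ', cj_mul]; exact hc _ (ih A hA)

/-- A generator of the norm-one units of the field. -/
theorem exists_gen : ∃ c : GL (Fin 3) F, c ∈ KU hK ∧ c ∈ Cfsg.Geo.specialLinear (Fin 3) F ∧
    q ^ 2 + q + 1 ≤ orderOf c ∧ orderOf c ∣ q ^ 3 - 1 := by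
  classical
  set C := Cfsg.Geo.specialLinear (Fin 3) F ⊓ KU hK with hC
  have hfield : IsField K :=
    { exists_pair_ne := ⟨0, 1, fun h => one_ne_zero (congrArg Subtype.val h).symm⟩
      mul_comm := fun a b => Subtype.ext (hK.comm _ a.2 _ b.2)
      mul_inv_cancel := fun {a} ha => by
        obtain ⟨j, hj, e⟩ := hK.inv _ a.2 (fun h => ha (Subtype.ext h))
        exact ⟨⟨j, hj⟩, Subtype.ext e⟩ }
  letI : Field K := hfield.toField
  let f : C →* K :=
    { toFun := fun g => ⟨((g : GL (Fin 3) F) : M₃), g.2.2⟩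
      map_one' := rfl
      map_mul' := fun _ _ => rfl }
  haveI : IsCyclic C := isCyclic_of_injective_ringHom f
    fun a b h => Subtype.ext (Units.ext (congrArg Subtype.val h))
  obtain ⟨c, hc⟩ := IsCyclic.exists_generator (α := C)
  have hord : orderOf (c : GL (Fin 3) F) = Nat.card C := by
    rw [Subgroup.orderOf_coe, orderOf_eq_card_of_forall_mem_zpowers hc]
  let z : V₃ := Pi.single 0 1
  have hz : z ≠ 0 := fun e => by simpa [z] using congrFun e 0
  obtain ⟨e, -⟩ := exists_orbit_equiv hK hz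
  have hKU : Nat.card (KU hK) = q ^ 3 - 1 := by
    rw [Nat.card_congr e, Nat.card_eq_fintype_card, Fintype.card_subtype_compl, Fintype.card_subtype_eq,
      Fintype.card_fun, Fintype.card_fin]
  let d : KU hK →* Fˣ := Matrix.GeneralLinearGroup.det.comp (KU hK).subtype
  have hd : d.ker = C.subgroupOf (KU hK) := by
    ext g
    rw [MonoidHom.mem_ker, Subgroup.mem_subgroupOf]
    exact ⟨fun h => ⟨h, g.2⟩, fun h => h.1⟩
  have hcard := d.ker.card_mul_index
  rw [Subgroup.index_ker, hd, Nat.card_congr (Subgroup.subgroupOfEquivOfLe inf_le_right).toEquiv, hKU] at hcard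
  refine ⟨c, c.2.2, c.2.1, ?_, hord ▸ ⟨_, hcard.symm⟩⟩
  have hr : Nat.card d.range ≤ q - 1 := by
    refine (Subgroup.card_le_card_group _).trans_eq ?_
    rw [Nat.card_eq_fintype_card, Fintype.card_units]
  rw [hord]
  have h2 : q ^ 3 - 1 ≤ Nat.card C * (q - 1) := hcard ▸ Nat.mul_le_mul_left _ hr
  obtain ⟨m, hm⟩ : ∃ m, q = m + 1 := ⟨q - 1, by have := Fintype.one_lt_card (α := F); omega⟩
  have hm0 : 0 < m := by have := Fintype.one_lt_card (α := F); omega
  rw [hm, Nat.add_sub_cancel, show (m + 1) ^ 3 = ((m + 1) ^ 2 + (m + 1) + 1) * m + 1 by ring,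
    Nat.add_sub_cancel] at h2
  rw [hm]
  exact Nat.le_of_mul_le_mul_right h2 hm0

/-- A power of an element of the field of small exponent is not a scalar. -/
theorem ns_pow {c : GL (Fin 3) F} (hcS : c ∈ Cfsg.Geo.specialLinear (Fin 3) F) {j : ℕ}
    (h : ¬ orderOf c ∣ 3 * j) : NS ((c ^ j : GL (Fin 3) F) : M₃) := by
  intro a ha
  apply h
  rw [mul_comm]
  refine orderOf_dvd_of_pow_eq_one (Units.ext ?_)
  have hdet : (((c ^ j : GL (Fin 3) F) : M₃)).det = 1 := by
    rw [← Matrix.GeneralLinearGroup.val_det_apply, map_pow, MonoidHom.mem_ker.1 hcS, one_pow, Units.val_one]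
  rw [ha, det_smul, det_one, mul_one, Fintype.card_fin] at hdet
  rw [pow_mul, Units.val_pow_eq_pow_val, ha, smul_pow, hdet, one_smul, one_pow, Units.val_one]

/-- A matrix with an orbit of at most three conjugates lies in the field. -/
theorem mem_of_orbit {c : GL (Fin 3) F} (hc : c ∈ KU hK) (hcS : c ∈ Cfsg.Geo.specialLinear (Fin 3) F)
    (hlo : q ^ 2 + q + 1 ≤ orderOf c) (hdv : orderOf c ∣ q ^ 3 - 1) {x : M₃} {s : Finset M₃}
    (hs : s.card ≤ 3) (hx : ∀ i : ℕ, cj (c ^ i) x ∈ s) : x ∈ K := by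
  classical
  obtain ⟨i, j, hij, e⟩ : ∃ i j : Fin 4, i ≠ j ∧ cj (c ^ (i : ℕ)) x = cj (c ^ (j : ℕ)) x := by
    obtain ⟨i, -, j, -, hij, e⟩ := Finset.exists_ne_map_eq_of_card_lt_of_maps_to (s := (Finset.univ : Finset (Fin 4)))
      (t := s) (f := fun i => cj (c ^ (i : ℕ)) x) (by simp; omega) (fun i _ => hx _)
    exact ⟨i, j, hij, e⟩
  wlog hlt : (i : ℕ) < (j : ℕ) generalizing i j
  · exact this j i hij.symm e.symm (by have : (i : ℕ) ≠ j := fun h => hij (Fin.ext h); omega)
  set k := (j : ℕ) - i with hk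
  have hfix : cj (c ^ k) x = x := by
    have h := congrArg (cj (c ^ (i : ℕ))⁻¹) e
    rw [cj_inv_cj, ← cj_mul] at h
    rwa [show (c ^ (i : ℕ))⁻¹ * c ^ (j : ℕ) = c ^ k by
      rw [inv_mul_eq_iff_eq_mul, ← pow_add, hk, Nat.add_sub_cancel' hlt.le], eq_comm] at h
  have hck : ((c ^ k : GL (Fin 3) F) : M₃) ∈ K := (KU hK).pow_mem hc k
  refine mem_of_commute_one hK hck (ns_pow hcS fun hd => ?_) (commute_of_cj hfix)
  have hk1 : 1 ≤ k := by omega
  have hk3 : k ≤ 3 := by omega
  have h9 := Nat.le_of_dvd (by omega) hd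
  have hq : 1 < q := Fintype.one_lt_card
  have hq2 : q = 2 := by
    by_contra h
    have : 3 ≤ q := by omega
    nlinarith
  rw [hq2] at hlo hdv
  have h7 : orderOf c = 7 := le_antisymm (Nat.le_of_dvd (by norm_num) (by simpa using hdv)) (by norm_num at hlo ⊢; omega)
  rw [h7] at hd
  interval_cases k <;> omega

/-- Commuting nilpotent matrices kill a common vector. -/
theorem exists_killed (s : Finset M₃) (hnil : ∀ A ∈ s, IsNilpotent A) (hcomm : ∀ A ∈ s, ∀ B ∈ s, A * B = B * A) :
    ∃ v : V₃, v ≠ 0 ∧ ∀ A ∈ s, A *ᵥ v = 0 := by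
  classical
  induction s using Finset.induction_on with
  | empty => exact ⟨Pi.single 0 1, fun e => by simpa using congrFun e 0, by simp⟩
  | @insert A s hA ih =>
    obtain ⟨v, hv, hvs⟩ := ih (fun B hB => hnil B (Finset.mem_insert_of_mem hB))
      fun B hB C hC => hcomm B (Finset.mem_insert_of_mem hB) C (Finset.mem_insert_of_mem hC)
    obtain ⟨n, hn⟩ := hnil A (Finset.mem_insert_self A s)
    have hex : ∃ m, A ^ m *ᵥ v = 0 := ⟨n, by rw [hn, zero_mulVec]⟩
    obtain ⟨m, hm⟩ : ∃ m, Nat.find hex = m + 1 := Nat.exists_eq_succ_of_ne_zero fun h0 => hv (by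
      have := Nat.find_spec hex
      rwa [h0, pow_zero, one_mulVec] at this)
    refine ⟨A ^ m *ᵥ v, Nat.find_min hex (by omega), fun B hB => ?_⟩
    rcases Finset.mem_insert.1 hB with rfl | hB'
    · rw [mulVec_mulVec, ← pow_succ', ← hm]; exact Nat.find_spec hex
    · have hc : Commute B (A ^ m) :=
        Commute.pow_right (hcomm B hB A (Finset.mem_insert_self A s)) m
      rw [mulVec_mulVec, hc.eq, ← mulVec_mulVec, hvs B hB', mulVec_zero]

include hK in
/-- A subspace stable under a non-scalar element of the field is trivial. -/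
theorem eq_top_of_stable {A : M₃} (hA : A ∈ K) (hns : NS A) {N : Submodule F V₃}
    (hN : ∀ v ∈ N, A *ᵥ v ∈ N) {v : V₃} (hv : v ∈ N) (hv0 : v ≠ 0) : N = ⊤ := by
  have hli : LinearIndependent F ![v, A *ᵥ v, A *ᵥ (A *ᵥ v)] := by
    rw [Fintype.linearIndependent_iff]
    intro a ha
    rw [Fin.sum_univ_three] at ha
    simp only [Matrix.cons_val_zero, Matrix.cons_val_one, Matrix.cons_val] at ha
    obtain ⟨h2, h1, h0⟩ := quad hK hA hns (a := a 2) (b := a 1) (c := a 0) (eq_of_mulVec hK
      (K.add_mem (K.add_mem (K.smul_mem (K.mul_mem hA hA) _) (K.smul_mem hA _)) (scalar_mem hK _)) K.zero_mem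
      hv0 (by rw [zero_mulVec, ← ha, add_mulVec, add_mulVec, smul_mulVec, smul_mulVec, smul_mulVec, one_mulVec,
        mulVec_mulVec]; abel))
    exact fun i => by fin_cases i <;> assumption
  rw [← top_le_iff, ← hli.span_eq_top_of_card_eq_finrank (by simp), Submodule.span_le]
  rintro _ ⟨i, rfl⟩
  fin_cases i
  · exact hv
  · exact hN v hv
  · exact hN _ (hN v hv)

/-- A commutative algebra normalised by the generator and different from the scalars is the field. -/
theorem algebra_le {c : GL (Fin 3) F} (hc : c ∈ KU hK) (hcS : c ∈ Cfsg.Geo.specialLinear (Fin 3) F)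
    (hlo : q ^ 2 + q + 1 ≤ orderOf c) (hdv : orderOf c ∣ q ^ 3 - 1) {E : Subalgebra F M₃}
    (hcomm : ∀ A ∈ E, ∀ B ∈ E, A * B = B * A) (hst : ∀ A ∈ E, cj c A ∈ E) (hns : ∃ x ∈ E, NS x) :
    E ≤ K := by
  classical
  suffices h : ∃ x ∈ E, NS x ∧ x ∈ K by
    obtain ⟨x, hxE, hxn, hxK⟩ := h
    exact fun A hA => mem_of_commute_one hK hxK hxn (hcomm A hA x hxE)
  by_cases hidem : ∃ e ∈ E, e * e = e ∧ e ≠ 0 ∧ e ≠ 1
  · -- minimal idempotents
    obtain ⟨e₀, he₀E, he₀, he₀0, he₀1⟩ := hidem
    let S : Finset M₃ := (Finset.univ : Finset M₃).filter fun e => e ∈ E ∧ e * e = e ∧ e ≠ 0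
    let r : M₃ → ℕ := fun e => (S.filter fun f => f * e = f).card
    obtain ⟨e, he, hmin⟩ := S.exists_min_image r ⟨e₀, Finset.mem_filter.2 ⟨Finset.mem_univ _, he₀E, he₀, he₀0⟩⟩
    obtain ⟨heE, hee, he0⟩ := (Finset.mem_filter.1 he).2
    have hmin' : ∀ f ∈ E, f * f = f → f * e = 0 ∨ f * e = e := by
      intro f hfE hff
      by_contra hno
      push Not at hno
      have hg : (f * e) * (f * e) = f * e := by
        rw [mul_assoc, ← mul_assoc e f, hcomm e heE f hfE, mul_assoc f e e, hee, ← mul_assoc, hff]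
      have hgS : f * e ∈ S := Finset.mem_filter.2 ⟨Finset.mem_univ _, E.mul_mem hfE heE, hg, hno.1⟩
      have hlt : r (f * e) < r e := by
        refine Finset.card_lt_card (Finset.ssubset_iff_of_subset (fun g hg' => ?_) |>.2 ⟨e, ?_, ?_⟩)
        · obtain ⟨hgS', hge⟩ := Finset.mem_filter.1 hg'
          refine Finset.mem_filter.2 ⟨hgS', ?_⟩
          rw [← hge, mul_assoc, mul_assoc f e e, hee]
        · exact Finset.mem_filter.2 ⟨he, hee⟩
        · intro h
          apply hno.2
          have h' := (Finset.mem_filter.1 h).2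
          rw [← mul_assoc, hcomm e heE f hfE, mul_assoc, hee] at h'
          exact h'
      exact absurd (hmin _ hgS) (not_le.2 hlt)
    refine ⟨e, heE, fun a ha => ?_, ?_⟩
    · have h1 : a • (1 : M₃) = (a * a) • 1 := by
        have := hee; rw [ha, smul_mul_assoc, one_mul, smul_smul] at this; exact this.symm
      have h2 : a = a * a := by
        have := congrFun (congrFun h1 0) 0; simpa using this
      have ha1 : a = 1 := (mul_left_eq_self₀.1 h2.symm).resolve_right fun h => he0 (by rw [ha, h, zero_smul])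
      rcases hmin' e₀ he₀E he₀ with h | h
      · exact he₀0 (by rwa [ha, ha1, one_smul, mul_one] at h)
      · exact he₀1 (by rwa [ha, ha1, one_smul, mul_one] at h)
    · let O : Finset M₃ := (Finset.range (orderOf c)).image fun i => cj (c ^ i) e
      have hO : ∀ i, cj (c ^ i) e ∈ O := fun i => Finset.mem_image.2
        ⟨i % orderOf c, Finset.mem_range.2 (Nat.mod_lt _ (by omega)), by rw [pow_mod_orderOf]⟩
      refine mem_of_orbit hK hc hcS hlo hdv ?_ hO
      have hprop : ∀ A ∈ O, A ∈ E ∧ A * A = A ∧ A ≠ 0 ∧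
          ∀ f ∈ E, f * f = f → f * A = 0 ∨ f * A = A := by
        intro A hA
        obtain ⟨i, -, rfl⟩ := Finset.mem_image.1 hA
        refine ⟨pow_cj_mem hst i e heE, by rw [← cj_map_mul, hee], fun h => he0 ?_, fun f hfE hff => ?_⟩
        · have := congrArg (cj (c ^ i)⁻¹) h
          rw [cj_inv_cj] at this
          rw [this]; simp [cj]
        · have hinv : (c ^ i)⁻¹ = c ^ (orderOf c * i - i) := by
            rw [inv_eq_iff_mul_eq_one, ← pow_add, Nat.add_sub_cancel' (Nat.le_mul_of_pos_left i (by omega)),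
              pow_mul, pow_orderOf_eq_one, one_pow]
          have hf' : cj (c ^ i)⁻¹ f ∈ E := by rw [hinv]; exact pow_cj_mem hst _ f hfE
          have hback : f = cj (c ^ i) (cj (c ^ i)⁻¹ f) := by rw [← cj_mul, mul_inv_cancel, cj_one]
          rcases hmin' _ hf' (by rw [← cj_map_mul, hff]) with h | h
          · left; rw [hback, ← cj_map_mul, h]; simp [cj]
          · right; conv_lhs => rw [hback, ← cj_map_mul, h]
      by_contra hcard
      push Not at hcard
      obtain ⟨T, hTO, hT4⟩ := Finset.exists_subset_card_eq (n := 4) (by omega : 4 ≤ O.card)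
      have hvec : ∀ A : T, ∃ v : V₃, (A : M₃) *ᵥ v = v ∧ v ≠ 0 := by
        intro A
        obtain ⟨-, hAA, hA0, -⟩ := hprop _ (hTO A.2)
        by_contra hno
        push Not at hno
        refine hA0 (Matrix.toLin'.injective (LinearMap.ext fun w => ?_))
        rw [Matrix.toLin'_apply, map_zero, LinearMap.zero_apply]
        exact hno _ (by rw [mulVec_mulVec, hAA])
      choose v hv hv0 using hvec
      have hli : LinearIndependent F v := by
        rw [Fintype.linearIndependent_iff]
        intro a ha A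
        have h := congrArg ((A : M₃) *ᵥ ·) ha
        simp only [mulVec_sum, mulVec_smul, mulVec_zero] at h
        rw [Finset.sum_eq_single A] at h
        · rw [hv] at h
          exact (smul_eq_zero.1 h).resolve_right (hv0 A)
        · intro B _ hBA
          obtain ⟨hAE, hAA, -, hAm⟩ := hprop _ (hTO A.2)
          obtain ⟨hBE, hBB, -, hBm⟩ := hprop _ (hTO B.2)
          have hzero : (A : M₃) * B = 0 := by
            rcases hBm _ hAE hAA with h1 | h1
            · exact h1
            · rcases hAm _ hBE hBB with h2 | h2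
              · rwa [hcomm _ hAE _ hBE]
              · rw [hcomm _ hBE _ hAE, h1] at h2
                exact absurd (Subtype.ext h2) hBA
          rw [← hv B, mulVec_mulVec, hzero, zero_mulVec, smul_zero]
        · simp
      have := hli.fintype_card_le_finrank
      simp [hT4] at this
  · push Not at hidem
    -- units and nilpotent elements
    have hdich : ∀ A ∈ E, IsNilpotent A ∨ ∃ B ∈ E, A * B = 1 := by
      intro A hA
      obtain ⟨a, b, hab, heq⟩ := Finite.exists_ne_map_eq_of_infinite (fun n : ℕ => A ^ n)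
      wlog hlt : a < b generalizing a b
      · exact this b a hab.symm heq.symm (by omega)
      change A ^ a = A ^ b at heq
      obtain ⟨p, hp, hb⟩ : ∃ p, 0 < p ∧ b = a + p := ⟨b - a, by omega, by omega⟩
      have hper : ∀ n, a ≤ n → A ^ (n + p) = A ^ n := fun n hn => by
        obtain ⟨d, rfl⟩ := Nat.exists_eq_add_of_le hn
        rw [add_right_comm, pow_add, ← hb, ← heq, ← pow_add]
      have hper' : ∀ t n, a ≤ n → A ^ (n + t * p) = A ^ n := by
        intro t
        induction t with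
        | zero => simp
        | succ t ih => intro n hn; rw [add_mul, one_mul, ← add_assoc, hper _ (by omega), ih n hn]
      set N := (a + 1) * p with hN
      have hNa : a ≤ N := by nlinarith
      have hN1 : 1 ≤ N := by nlinarith
      have hi : A ^ N * A ^ N = A ^ N := by
        rw [← pow_add, show N + N = N + (a + 1) * p from rfl, hper' _ N hNa]
      rcases em (A ^ N = 0) with h0 | h0
      · exact Or.inl ⟨N, h0⟩
      · have h1 := hidem _ (E.pow_mem hA N) hi h0
        refine Or.inr ⟨A ^ (N - 1), E.pow_mem hA _, ?_⟩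
        rw [← pow_succ', Nat.sub_add_cancel hN1, h1]
    by_cases hnil : ∃ A ∈ E, IsNilpotent A ∧ A ≠ 0
    · exfalso
      obtain ⟨A₀, hA₀, hA₀n, hA₀0⟩ := hnil
      let s : Finset M₃ := (Finset.univ : Finset M₃).filter fun A => A ∈ E ∧ IsNilpotent A
      obtain ⟨v, hv0, hv⟩ := exists_killed s (fun A hA => (Finset.mem_filter.1 hA).2.2)
        fun A hA B hB => hcomm A (Finset.mem_filter.1 hA).2.1 B (Finset.mem_filter.1 hB).2.1
      let N : Submodule F V₃ :=
        { carrier := {w | ∀ A ∈ s, A *ᵥ w = 0}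
          add_mem' := fun {x y} hx hy A hA => by rw [mulVec_add, hx A hA, hy A hA, add_zero]
          zero_mem' := fun A _ => mulVec_zero A
          smul_mem' := fun a x hx A hA => by rw [mulVec_smul, hx A hA, smul_zero] }
      have hst' : ∀ w ∈ N, (c : M₃) *ᵥ w ∈ N := by
        intro w hw A hA
        obtain ⟨hAE, k, hAk⟩ := (Finset.mem_filter.1 hA).2
        have hinv : c⁻¹ = c ^ (orderOf c - 1) := by
          rw [inv_eq_iff_mul_eq_one, ← pow_succ', Nat.sub_add_cancel (by omega), pow_orderOf_eq_one]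
        have hpow : ∀ n : ℕ, cj c⁻¹ A ^ n = cj c⁻¹ (A ^ n) := fun n => by
          induction n with
          | zero => simp [cj]
          | succ n ih => rw [pow_succ, ih, ← cj_map_mul, ← pow_succ]
        have hm : cj c⁻¹ A ∈ s := by
          refine Finset.mem_filter.2 ⟨Finset.mem_univ _, by rw [hinv]; exact pow_cj_mem hst _ A hAE, k, ?_⟩
          rw [hpow, hAk]; simp [cj]
        have h := congrArg ((c : M₃) *ᵥ ·) (hw _ hm)
        simp only [mulVec_mulVec, mulVec_zero, cj, inv_inv] at h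
        rw [mulVec_mulVec]
        simpa [← mul_assoc] using h
      have htop := eq_top_of_stable hK hc (Eq.mp (congrArg (fun g : GL (Fin 3) F => NS (g : M₃)) (pow_one c)) <| ns_pow hcS (j := 1) fun hd => by
        have := Nat.le_of_dvd (by norm_num) hd
        have : 2 ≤ q := Fintype.one_lt_card
        nlinarith) hst' (show v ∈ N from hv) hv0
      refine hA₀0 (Matrix.toLin'.injective (LinearMap.ext fun w => ?_))
      have hw : w ∈ N := htop ▸ Submodule.mem_top
      rw [Matrix.toLin'_apply, map_zero, LinearMap.zero_apply]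
      exact hw A₀ (Finset.mem_filter.2 ⟨Finset.mem_univ _, hA₀, hA₀n⟩)
    · push Not at hnil
      obtain ⟨x, hxE, hxn⟩ := hns
      refine ⟨x, hxE, hxn, ?_⟩
      have hfield : IsField E :=
        { exists_pair_ne := ⟨0, 1, fun h => one_ne_zero (congrArg Subtype.val h).symm⟩
          mul_comm := fun a b => Subtype.ext (hcomm _ a.2 _ b.2)
          mul_inv_cancel := fun {a} ha => by
            rcases hdich _ a.2 with h | ⟨B, hB, hAB⟩
            · exact absurd (Subtype.ext (hnil _ a.2 h)) ha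
            · exact ⟨⟨B, hB⟩, Subtype.ext hAB⟩ }
      letI : Field E := hfield.toField
      let P := x.charpoly.map (algebraMap F E)
      have hP0 : P ≠ 0 := (x.charpoly_monic.map _).ne_zero
      let O : Finset M₃ := P.roots.toFinset.image Subtype.val
      refine mem_of_orbit hK hc hcS hlo hdv (s := O) ?_ fun i => ?_
      · refine Finset.card_image_le.trans ((Multiset.toFinset_card_le _).trans ((Polynomial.card_roots' P).trans ?_))
        rw [Polynomial.natDegree_map, Matrix.charpoly_natDegree_eq_dim, Fintype.card_fin]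
      · refine Finset.mem_image.2 ⟨⟨_, pow_cj_mem hst i x hxE⟩, ?_, rfl⟩
        rw [Multiset.mem_toFinset, Polynomial.mem_roots hP0, Polynomial.IsRoot, Polynomial.eval_map,
          ← Polynomial.aeval_def]
        apply Subtype.ext
        show E.val (Polynomial.aeval _ x.charpoly) = 0
        rw [← Polynomial.aeval_algHom_apply]
        show Polynomial.aeval (cj (c ^ i) x) x.charpoly = 0
        let α : M₃ →ₐ[F] M₃ :=
          { toFun := cj (c ^ i)
            map_one' := by simp [cj]
            map_mul' := cj_map_mul _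
            map_zero' := by simp [cj]
            map_add' := cj_add _
            commutes' := fun a => by rw [Algebra.algebraMap_eq_smul_one, cj_scalar] }
        show Polynomial.aeval (α x) x.charpoly = 0
        rw [Polynomial.aeval_algHom_apply, Matrix.aeval_self_charpoly, map_zero]

/-- An abelian non-scalar normal subgroup puts the group into the normaliser. -/
theorem le_normalizer_of_abelian {c : GL (Fin 3) F} (hc : c ∈ KU hK)
    (hcS : c ∈ Cfsg.Geo.specialLinear (Fin 3) F) (hlo : q ^ 2 + q + 1 ≤ orderOf c)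
    (hdv : orderOf c ∣ q ^ 3 - 1) {H A : Subgroup (GL (Fin 3) F)} (hcH : c ∈ H)
    (hn : ∀ h ∈ H, ∀ a ∈ A, h * a * h⁻¹ ∈ A) (hab : ∀ a ∈ A, ∀ b ∈ A, a * b = b * a)
    (hns : ∃ a ∈ A, NS (a : M₃)) : H ≤ Cfsg.Geo.subalgebraNormalizer K := by
  set S : Set M₃ := (fun g : GL (Fin 3) F => (g : M₃)) '' (A : Set (GL (Fin 3) F)) with hS
  set E := Algebra.adjoin F S with hE
  have h1 : ∀ A' ∈ E, ∀ s ∈ S, A' * s = s * A' := by
    intro A' hA'
    induction hA' using Algebra.adjoin_induction with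
    | mem x hx =>
      intro s hs
      obtain ⟨a, ha, rfl⟩ := hx
      obtain ⟨b, hb, rfl⟩ := hs
      exact congrArg Units.val (hab a ha b hb)
    | algebraMap r => intro s _; exact Algebra.commutes r s
    | add x y _ _ hx hy => intro s hs; rw [add_mul, mul_add, hx s hs, hy s hs]
    | mul x y _ _ hx hy => intro s hs; rw [mul_assoc, hy s hs, ← mul_assoc, hx s hs, mul_assoc]
  have hcomm : ∀ A' ∈ E, ∀ B ∈ E, A' * B = B * A' := by
    intro A' hA' B hB
    induction hB using Algebra.adjoin_induction with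
    | mem x hx => exact h1 A' hA' x hx
    | algebraMap r => exact (Algebra.commutes r A').symm
    | add x y _ _ hx hy => rw [add_mul, mul_add, hx, hy]
    | mul x y _ _ hx hy => rw [← mul_assoc, hx, mul_assoc, hy, mul_assoc]
  have hst : ∀ h ∈ H, ∀ A' ∈ E, cj h A' ∈ E := by
    intro h hh A' hA'
    induction hA' using Algebra.adjoin_induction with
    | mem x hx =>
      obtain ⟨a, ha, rfl⟩ := hx
      exact Algebra.subset_adjoin ⟨_, hn h hh a ha, (cj_unit h a).symm⟩
    | algebraMap r => rw [Algebra.algebraMap_eq_smul_one, cj_scalar]; exact E.smul_mem E.one_mem r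
    | add x y _ _ hx hy => rw [cj_add]; exact E.add_mem hx hy
    | mul x y _ _ hx hy => rw [cj_map_mul]; exact E.mul_mem hx hy
  obtain ⟨a, ha, han⟩ := hns
  have haE : (a : M₃) ∈ E := Algebra.subset_adjoin ⟨a, ha, rfl⟩
  have hEK : E ≤ K := algebra_le hK hc hcS hlo hdv hcomm (hst c hcH) ⟨_, haE, han⟩
  intro h hh
  have key : ∀ g ∈ H, ∀ k ∈ K, cj g k ∈ K := fun g hg k hk => by
    refine mem_of_commute_one hK (hEK (hst g hg _ haE)) (fun r hr => han r ?_) ?_
    · have := congrArg (cj g⁻¹) hr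
      rwa [cj_inv_cj, cj_scalar] at this
    · rw [← cj_map_mul, ← cj_map_mul, hK.comm _ hk _ (hEK haE)]
  exact fun k => ⟨key h hh k, fun hk => cj_inv_cj h k ▸ key h⁻¹ (inv_mem hh) _ hk⟩

theorem le_normalizer_of_solvable {F : Type*} [Field F] [Fintype F]
    {K : Subalgebra F (Matrix (Fin 3) (Fin 3) F)} (hK : Cfsg.Geo.IsFieldSubalgebra 3 K)
    (hq : Fintype.card F ≠ 4) {H : Subgroup (GL (Fin 3) F)}
    (hH : H ≤ Cfsg.Geo.specialLinear (Fin 3) F)
    (hN : Cfsg.Geo.subalgebraNormalizer K ⊓ Cfsg.Geo.specialLinear (Fin 3) F ≤ H)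
    (hsol : Group.IsSolvable H) : H ≤ Cfsg.Geo.subalgebraNormalizer K := by
  classical
  obtain ⟨c, hc, hcS, hlo, hdv⟩ := exists_gen hK
  have hcH : c ∈ H := hN ⟨unit_mem_normalizer hK hc, hcS⟩
  let Sc : Subgroup (GL (Fin 3) F) := (Matrix.GeneralLinearGroup.scalar (Fin 3)).range
  have hScmem : ∀ g : GL (Fin 3) F, g ∉ Sc → NS (g : Matrix (Fin 3) (Fin 3) F) := fun g hg a ha => hg
    ⟨Units.mk0 a (fun h => g.ne_zero (by rw [ha, h, zero_smul])), Units.ext (by
      show (sc (Units.mk0 a _) : Matrix (Fin 3) (Fin 3) F) = _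
      rw [sc_coe, Units.val_mk0, ha])⟩
  let D : ℕ → Subgroup (GL (Fin 3) F) := fun n => (derivedSeries H n).map H.subtype
  have hDn : ∀ n, ∀ h ∈ H, ∀ a ∈ D n, h * a * h⁻¹ ∈ D n := by
    rintro n h hh _ ⟨a, ha, rfl⟩
    exact ⟨_, (derivedSeries_normal H n).conj_mem a ha ⟨h, hh⟩, rfl⟩
  have hD1 : ∀ n, ⁅D n, D n⁆ = D (n + 1) := fun n => by
    simp only [D, derivedSeries_succ, Subgroup.map_commutator]
  have hex : ∃ n, D n ≤ Sc := by
    obtain ⟨n, hn⟩ := (Group.isSolvable_def _).1 hsol
    exact ⟨n, by simp [D, hn]⟩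
  rcases Nat.eq_zero_or_pos (Nat.find hex) with h0 | hpos
  · intro h hh k
    obtain ⟨u, hu⟩ : h ∈ Sc := by
      have := Nat.find_spec hex
      rw [h0] at this
      exact this ⟨⟨h, hh⟩, by simp, rfl⟩
    have hval : (h : Matrix (Fin 3) (Fin 3) F) = (u : F) • 1 := by rw [← hu]; exact sc_coe u
    have hcomm : (h : Matrix (Fin 3) (Fin 3) F) * k = k * (h : Matrix (Fin 3) (Fin 3) F) := by
      rw [hval, smul_mul_assoc, one_mul, mul_smul_comm, mul_one]
    rw [hcomm, mul_assoc, ← Units.val_mul, mul_inv_cancel, Units.val_one, mul_one]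
  obtain ⟨n, hn⟩ : ∃ n, Nat.find hex = n + 1 := ⟨Nat.find hex - 1, by omega⟩
  have hsc1 : ⁅D n, D n⁆ ≤ Sc := by rw [hD1, ← hn]; exact Nat.find_spec hex
  obtain ⟨a₀, ha₀, ha₀n⟩ := SetLike.not_le_iff_exists.1 (Nat.find_min hex (show n < Nat.find hex by omega))
  have hDH : D n ≤ H := Subgroup.map_subtype_le _
  -- the centre
  let Z : Subgroup (GL (Fin 3) F) := D n ⊓ Subgroup.centralizer (D n : Set (GL (Fin 3) F))
  by_cases hZ : Z ≤ Sc
  swap
  · obtain ⟨z, hz, hzn⟩ := SetLike.not_le_iff_exists.1 hZ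
    refine le_normalizer_of_abelian hK hc hcS hlo hdv hcH (A := Z) (fun h hh a ha => ⟨hDn n h hh a ha.1, ?_⟩)
      (fun a ha b hb => (Subgroup.mem_centralizer_iff.1 hb.2 a ha.1)) ⟨z, hz, hScmem z hzn⟩
    refine Subgroup.mem_centralizer_iff.2 fun d hd => ?_
    have hd' : h⁻¹ * d * h ∈ D n := by simpa using hDn n h⁻¹ (inv_mem hh) d hd
    have e := Subgroup.mem_centralizer_iff.1 ha.2 _ hd'
    calc d * (h * a * h⁻¹) = h * ((h⁻¹ * d * h) * a) * h⁻¹ := by group
      _ = h * (a * (h⁻¹ * d * h)) * h⁻¹ := by rw [e]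
      _ = h * a * h⁻¹ * d := by group
  exfalso
  -- the characters
  have hch : ∀ x : D n, ∃ χ : D n →* Fˣ, ∀ y : D n,
      ((y : GL (Fin 3) F) * x * (y : GL (Fin 3) F)⁻¹) = sc (χ y) * x := by
    intro x
    have h : ∀ y : D n, ∃ u : Fˣ, ((y : GL (Fin 3) F) * x * (y : GL (Fin 3) F)⁻¹) = sc u * x := fun y => by
      obtain ⟨u, hu⟩ := hsc1 (Subgroup.commutator_mem_commutator y.2 x.2)
      refine ⟨u, ?_⟩
      show _ = Matrix.GeneralLinearGroup.scalar (Fin 3) u * _
      rw [hu, commutatorElement_def, inv_mul_cancel_right]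
    choose χ hχ using h
    have hinj : Function.Injective (fun u : Fˣ => sc u * (x : GL (Fin 3) F)) := fun u v huv => by
      have := congrArg (fun g : GL (Fin 3) F => (g : Matrix (Fin 3) (Fin 3) F) 0 0) (mul_right_cancel huv)
      exact Units.ext (by simpa [sc_coe] using this)
    refine ⟨MonoidHom.mk' χ fun y z => hinj ?_, fun y => hχ y⟩
    simp only
    have hcen : ∀ (u : Fˣ) (g : GL (Fin 3) F), g * sc u = sc u * g := fun u g => Units.ext (by
      rw [Units.val_mul, Units.val_mul, sc_coe, smul_mul_assoc, one_mul, mul_smul_comm, mul_one])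
    rw [← hχ]
    calc ((y * z : D n) : GL (Fin 3) F) * x * ((y * z : D n) : GL (Fin 3) F)⁻¹
        = (y : GL (Fin 3) F) * ((z : GL (Fin 3) F) * x * (z : GL (Fin 3) F)⁻¹) * (y : GL (Fin 3) F)⁻¹ := by
          push_cast; group
      _ = (y : GL (Fin 3) F) * sc (χ z) * x * (y : GL (Fin 3) F)⁻¹ := by rw [hχ z]; group
      _ = sc (χ z) * ((y : GL (Fin 3) F) * x * (y : GL (Fin 3) F)⁻¹) := by rw [hcen]; group
      _ = sc (χ y * χ z) * x := by
          rw [hχ y, show sc (χ y * χ z) = sc (χ y) * sc (χ z) from map_mul _ _ _, hcen (χ z) (sc (χ y)),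
            mul_assoc]
  choose χ hχ using hch
  have hsc_one : sc (1 : Fˣ) = (1 : GL (Fin 3) F) := map_one _
  have hkerχ : ∀ x : D n, χ x = 1 → (x : GL (Fin 3) F) ∈ Sc := fun x hx => hZ ⟨x.2,
    Subgroup.mem_centralizer_iff.2 fun d hd => by
      have := hχ x ⟨d, hd⟩
      rw [hx, MonoidHom.one_apply, hsc_one, one_mul] at this
      exact mul_inv_eq_iff_eq_mul.1 this⟩
  -- at most nine characters
  have hnine : Nat.card (Set.range χ) ≤ 9 := by
    have hsel : ∀ ψ : Set.range χ, ∃ x : D n, χ x = ψ.1 := fun ψ => ψ.2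
    choose rep hrep using hsel
    haveI := Fintype.ofFinite (Set.range χ)
    have hli : LinearIndependent F fun ψ : Set.range χ =>
        ((rep ψ : GL (Fin 3) F) : Matrix (Fin 3) (Fin 3) F) := by
      rw [Fintype.linearIndependent_iff]
      intro a ha ψ
      have hmon : LinearIndependent F fun φ : Set.range χ => (fun y : D n => ((φ.1 y : Fˣ) : F)) :=
        (linearIndependent_monoidHom (D n) F).comp (fun φ : Set.range χ => (Units.coeHom F).comp φ.1)
          fun φ φ' h => Subtype.ext (MonoidHom.ext fun y => Units.ext (DFunLike.congr_fun h y))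
      rw [Fintype.linearIndependent_iff] at hmon
      by_contra ha0
      refine (rep ψ : GL (Fin 3) F).ne_zero (Matrix.ext fun i j => ?_)
      have := hmon (fun φ => a φ * ((rep φ : GL (Fin 3) F) : Matrix (Fin 3) (Fin 3) F) i j) (funext fun y => by
        have h := congrArg (fun M => cj (y : GL (Fin 3) F) M i j) ha
        have hs : cj (y : GL (Fin 3) F) (∑ φ : Set.range χ, a φ • ((rep φ : GL (Fin 3) F) : Matrix (Fin 3) (Fin 3) F)) =
            ∑ φ : Set.range χ, a φ • cj (y : GL (Fin 3) F) ((rep φ : GL (Fin 3) F) : Matrix (Fin 3) (Fin 3) F) := by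
          simp [cj, Finset.mul_sum, Finset.sum_mul]
        simp only [hs, cj_unit, hχ, hrep, Units.val_mul, sc_coe, smul_mul_assoc, one_mul] at h
        rw [Matrix.sum_apply] at h
        simp only [Matrix.smul_apply, smul_eq_mul] at h
        simp only [Finset.sum_apply, Pi.smul_apply, smul_eq_mul, Pi.zero_apply]
        rw [show cj (y : GL (Fin 3) F) (0 : Matrix (Fin 3) (Fin 3) F) = 0 by simp [cj], Matrix.zero_apply] at h
        exact (Finset.sum_congr rfl fun φ _ => by ring).trans h) ψ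
      simpa [ha0] using this
    rw [Nat.card_eq_fintype_card]
    simpa [Module.finrank_matrix] using hli.fintype_card_le_finrank
  haveI := Fintype.ofFinite (Set.range χ)
  have hone : χ 1 = 1 := MonoidHom.ext fun y => by
    have := hχ 1 y
    simp at this
    exact Units.ext (by
      have := congrArg (fun g : GL (Fin 3) F => (g : Matrix (Fin 3) (Fin 3) F) 0 0) this
      simpa [sc_coe] using this.symm)
  -- every element lies in the field
  have hinK : ∀ x : D n, (x : GL (Fin 3) F) ∉ Sc → ((x : GL (Fin 3) F) : Matrix (Fin 3) (Fin 3) F) ∈ K := by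
    intro x hx
    let o : ℕ → D n := fun i => ⟨c ^ i * x * (c ^ i)⁻¹, hDn n _ (pow_mem hcH i) _ x.2⟩
    have hot : ∀ i, (o i : GL (Fin 3) F) ∉ Sc := fun i hi => hx (by
      obtain ⟨u, hu⟩ := hi
      refine ⟨u, Units.ext ?_⟩
      have h : cj (c ^ i)⁻¹ (cj (c ^ i) ((x : GL (Fin 3) F) : Matrix (Fin 3) (Fin 3) F)) =
          cj (c ^ i)⁻¹ (sc u : GL (Fin 3) F) := by rw [cj_unit]; exact congrArg (cj (c ^ i)⁻¹) (congrArg Units.val hu.symm)
      rw [cj_inv_cj, sc_coe, cj_scalar] at h
      rw [h]; exact sc_coe u)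
    let T : Finset (Set.range χ) := Finset.univ.erase ⟨1, 1, hone⟩
    have hT : T.card ≤ 8 := by
      rw [Finset.card_erase_of_mem (Finset.mem_univ _), Finset.card_univ, ← Nat.card_eq_fintype_card]; omega
    obtain ⟨i, -, j, -, hij, e⟩ := Finset.exists_ne_map_eq_of_card_lt_of_maps_to
      (s := (Finset.univ : Finset (Fin 9))) (t := T) (f := fun i => ⟨χ (o i), o i, rfl⟩)
      (by simp; omega) (fun i _ => Finset.mem_erase.2 ⟨fun h => hot i (hkerχ _ (congrArg Subtype.val h)),
        Finset.mem_univ _⟩)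
    wlog hlt : (i : ℕ) < (j : ℕ) generalizing i j
    · exact this j i hij.symm e.symm
        (by have : (i : ℕ) ≠ j := fun h => hij (Fin.ext h); omega)
    set k := (j : ℕ) - i with hk
    have hk8 : 1 ≤ k ∧ k ≤ 8 := by omega
    -- the two conjugates differ by a scalar
    obtain ⟨u, hu⟩ : ((o j : GL (Fin 3) F) * (o i : GL (Fin 3) F)⁻¹) ∈ Sc := by
      refine hkerχ (o j * (o i)⁻¹) ?_
      have hmulχ : ∀ x y : D n, χ (x * y) = χ x * χ y := fun x y => MonoidHom.ext fun w => Units.ext (by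
        have h1 : sc ((χ (x * y)) w) = sc (χ x w * χ y w) := by
          apply mul_right_cancel (b := (x : GL (Fin 3) F) * y)
          rw [← Subgroup.coe_mul, ← hχ, Subgroup.coe_mul, show sc (χ x w * χ y w) = sc (χ x w) * sc (χ y w) from
            map_mul _ _ _]
          calc (w : GL (Fin 3) F) * ((x : GL (Fin 3) F) * y) * (w : GL (Fin 3) F)⁻¹
              = ((w : GL (Fin 3) F) * x * (w : GL (Fin 3) F)⁻¹) * ((w : GL (Fin 3) F) * y * (w : GL (Fin 3) F)⁻¹) := by
                group
            _ = sc (χ x w) * x * (sc (χ y w) * y) := by rw [hχ, hχ]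
            _ = _ := Units.ext (by
                simp only [Units.val_mul, sc_coe, smul_mul_assoc, mul_smul_comm, one_mul, mul_one]
                try rw [smul_comm])
        have := congrArg (fun g : GL (Fin 3) F => (g : Matrix (Fin 3) (Fin 3) F) 0 0) h1
        simpa [sc_coe] using this)
      have := congrArg Subtype.val e
      simp only at this
      let Φ : D n →* (D n →* Fˣ) := MonoidHom.mk' χ hmulχ
      show Φ (o j * (o i)⁻¹) = 1
      rw [map_mul, map_inv, show Φ (o j) = Φ (o i) from this.symm, mul_inv_cancel]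
    have hconj : cj (c ^ k) ((x : GL (Fin 3) F) : Matrix (Fin 3) (Fin 3) F) =
        (u : F) • ((x : GL (Fin 3) F) : Matrix (Fin 3) (Fin 3) F) := by
      have h1 : (o j : GL (Fin 3) F) = sc u * (o i : GL (Fin 3) F) := by
        show _ = Matrix.GeneralLinearGroup.scalar (Fin 3) u * _
        rw [hu, inv_mul_cancel_right]
      have h2 := congrArg (fun g : GL (Fin 3) F => cj (c ^ (i : ℕ))⁻¹ (g : Matrix (Fin 3) (Fin 3) F)) h1
      simp only [o, Units.val_mul, sc_coe, smul_mul_assoc, one_mul, cj_smul] at h2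
      rw [← Units.val_mul, ← Units.val_mul, ← cj_unit, ← Units.val_mul, ← Units.val_mul, ← cj_unit, cj_inv_cj,
        ← cj_mul, show (c ^ (i : ℕ))⁻¹ * c ^ (j : ℕ) = c ^ k by
          rw [inv_mul_eq_iff_eq_mul, ← pow_add, hk, Nat.add_sub_cancel' hlt.le]] at h2
      exact h2
    have hu3 : (u : F) ^ 3 = 1 := by
      have h := congrArg Matrix.det hconj
      rw [cj, Matrix.det_units_conj, det_smul, Fintype.card_fin] at h
      have hx0 : ((x : GL (Fin 3) F) : Matrix (Fin 3) (Fin 3) F).det ≠ 0 :=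
        (Matrix.isUnit_iff_isUnit_det _).1 (x : GL (Fin 3) F).isUnit |>.ne_zero
      exact (mul_eq_right₀ hx0).1 h.symm
    -- the field has cube roots of unity
    obtain ⟨y, hy⟩ : ∃ y : D n, χ x y ≠ 1 := by
      by_contra hall
      push Not at hall
      exact hx (hkerχ x (MonoidHom.ext hall))
    have hy3 : (χ x y) ^ 3 = 1 := Units.ext (by
      have h := congrArg (fun g : GL (Fin 3) F => Matrix.det (g : Matrix (Fin 3) (Fin 3) F)) (hχ x y)
      simp only [Units.val_mul, sc_coe, Matrix.det_mul, det_smul, det_one, mul_one, Fintype.card_fin] at h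
      have hx0 : ((x : GL (Fin 3) F) : Matrix (Fin 3) (Fin 3) F).det = 1 := by
        rw [← Matrix.GeneralLinearGroup.val_det_apply, MonoidHom.mem_ker.1 (hH (hDH x.2)), Units.val_one]
      have hy0 : ((y : GL (Fin 3) F) : Matrix (Fin 3) (Fin 3) F).det = 1 := by
        rw [← Matrix.GeneralLinearGroup.val_det_apply, MonoidHom.mem_ker.1 (hH (hDH y.2)), Units.val_one]
      have hy0' : (((y : GL (Fin 3) F)⁻¹ : GL (Fin 3) F) : Matrix (Fin 3) (Fin 3) F).det = 1 := by
        rw [← Matrix.GeneralLinearGroup.val_det_apply, map_inv, MonoidHom.mem_ker.1 (hH (hDH y.2)), inv_one,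
          Units.val_one]
      rw [hx0, hy0, hy0'] at h
      simpa using h.symm)
    haveI : Fact (Nat.Prime 3) := ⟨Nat.prime_three⟩
    have h3dvd : 3 ∣ Fintype.card F - 1 := by
      rw [← Fintype.card_units, ← Nat.card_eq_fintype_card, ← orderOf_eq_prime hy3 hy]
      exact orderOf_dvd_natCard _
    have hq7 : 7 ≤ Fintype.card F := by have := Fintype.one_lt_card (α := F); omega
    -- the cube of the power centralises
    have hfix : cj (c ^ (3 * k)) ((x : GL (Fin 3) F) : Matrix (Fin 3) (Fin 3) F) =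
        ((x : GL (Fin 3) F) : Matrix (Fin 3) (Fin 3) F) := by
      rw [show c ^ (3 * k) = c ^ k * (c ^ k * c ^ k) by rw [← pow_add, ← pow_add]; congr 1; ring,
        cj_mul, cj_mul, hconj, cj_smul, hconj, smul_smul, cj_smul, hconj, smul_smul, ← pow_two, ← pow_succ, hu3,
        one_smul]
    refine mem_of_commute_one hK ((KU hK).pow_mem hc (3 * k)) (ns_pow hcS fun hd => ?_) (commute_of_cj hfix)
    have hle := Nat.le_of_dvd (by omega) hd
    have hq8 : Fintype.card F ≤ 8 := by
      by_contra h9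
      push Not at h9
      nlinarith
    have hqv : Fintype.card F = 7 := by omega
    rw [hqv] at hlo hdv
    norm_num at hlo hdv
    have hord : orderOf c ∈ Nat.divisors 342 := Nat.mem_divisors.2 ⟨hdv, by norm_num⟩
    have hdl : orderOf c ∈ (Nat.divisors 342).filter (fun d => 57 ≤ d) := Finset.mem_filter.2 ⟨hord, hlo⟩
    rw [show (Nat.divisors 342).filter (fun d => 57 ≤ d) = ({57, 114, 171, 342} : Finset ℕ) by decide] at hdl
    simp only [Finset.mem_insert, Finset.mem_singleton] at hdl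
    rcases hdl with h | h | h | h <;> rw [h] at hd <;> omega
  refine ha₀n (hkerχ ⟨a₀, ha₀⟩ (MonoidHom.ext fun y => Units.ext ?_))
  by_cases hyS : (y : GL (Fin 3) F) ∈ Sc
  · obtain ⟨u, hu⟩ := hyS
    have h := congrArg (fun g : GL (Fin 3) F => (g : Matrix (Fin 3) (Fin 3) F)) (hχ ⟨a₀, ha₀⟩ y)
    rw [← hu] at h
    simp only [← cj_unit, sc_coe, Units.val_mul] at h
    have he : cj (Matrix.GeneralLinearGroup.scalar (Fin 3) u) (a₀ : Matrix (Fin 3) (Fin 3) F) = a₀ := by
      show cj (sc u) _ = _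
      rw [cj, sc_coe, smul_mul_assoc, one_mul, smul_mul_assoc, ← mul_smul_comm, show (u : F) •
        (((sc u)⁻¹ : GL (Fin 3) F) : Matrix (Fin 3) (Fin 3) F) = (sc u : Matrix (Fin 3) (Fin 3) F) *
          (((sc u)⁻¹ : GL (Fin 3) F) : Matrix (Fin 3) (Fin 3) F) by rw [sc_coe, smul_mul_assoc, one_mul],
        ← Units.val_mul, mul_inv_cancel, Units.val_one, mul_one]
    simp only [cj] at he
    rw [he, smul_mul_assoc, one_mul] at h
    by_contra hne
    exact (a₀ : GL (Fin 3) F).ne_zero ((smul_eq_zero.1 (show (((χ ⟨a₀, ha₀⟩ y : Fˣ) : F) - 1) •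
      (a₀ : Matrix (Fin 3) (Fin 3) F) = 0 by rw [sub_smul, one_smul, ← h, sub_self])).resolve_left
        (sub_ne_zero.2 hne))
  · have hab : (y : GL (Fin 3) F) * a₀ = a₀ * y :=
      Units.ext (by rw [Units.val_mul, Units.val_mul]; exact hK.comm _ (hinK y hyS) _ (hinK ⟨a₀, ha₀⟩ ha₀n))
    have h := hχ ⟨a₀, ha₀⟩ y
    rw [hab, mul_inv_cancel_right] at h
    have h2 := congrArg (fun g : GL (Fin 3) F => (g : Matrix (Fin 3) (Fin 3) F) 0 0) (right_eq_mul.1 h)
    simpa [sc_coe] using h2

end Cfsg.Agent.Lib.SLThree78.Singer
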