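import Cfsg.Agent.Lib.SLThree78.Singer.TwoMain
import Cfsg.Agent.Lib.SLThree78.Singer.Solvable
import Cfsg.Agent.Lib.SLThree78.Singer.Sixteen
import Cfsg.Agent.Lib.MaxClass.NotTop
import Cfsg.Agent.S0205

/-!
The determinant-one normaliser of a cubic field is maximal in `SL₃(q)`, unless `q = 4`.
-/

set_option autoImplicit false
set_option linter.unusedSectionVars false

namespace Cfsg.Agent.Lib.SLThree78.Singer

open Matrix
open Cfsg.Agent.Lib.SubfieldMax (InTr)

variable {F : Type*} [Field F] [Fintype F]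

local notation "q" => Fintype.card F

theorem sixteen {K : Subalgebra F (Matrix (Fin 3) (Fin 3) F)} {H : Subgroup (GL (Fin 3) F)} (h : Over K H) :
    SixteenStmt K H := fun _ hq _ hv0 hO W hW hvW hinj hN hperm =>
  le_normalizer_sixteen h hq hv0 hO W hW hvW hinj hN hperm

theorem eq_or_eq (hq4 : q ≠ 4) {K : Subalgebra F (Matrix (Fin 3) (Fin 3) F)} {H : Subgroup (GL (Fin 3) F)}
    (h : Over K H) :
    H = Cfsg.Geo.specialLinear (Fin 3) F ∨ H ≤ Cfsg.Geo.subalgebraNormalizer K := by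
  rcases Nat.even_or_odd (Nat.card H) with hev | hodd
  · haveI : Fact (Nat.Prime 2) := ⟨Nat.prime_two⟩
    obtain ⟨s, hs⟩ := exists_prime_orderOf_dvd_card' (G := H) 2 hev.two_dvd
    have hs1 : (s : GL (Fin 3) F) ≠ 1 := fun e => by
      rw [show s = 1 from Subtype.ext e, orderOf_one] at hs
      omega
    have hs2 : (s : GL (Fin 3) F) * s = 1 := by
      have := pow_orderOf_eq_one s
      rw [hs, pow_two] at this
      exact congrArg Subtype.val this
    -- a transvection
    obtain ⟨u, a, hu0, ha0, hua⟩ : ∃ u a : Fin 3 → F, u ≠ 0 ∧ a ≠ 0 ∧ InTr H u a := by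
      by_cases h2 : (2 : F) = 0
      · exact exists_inTr_of_two h2 s.2 hs2 hs1
      by_contra hno
      push Not at hno
      obtain ⟨v, ψ, hv, -⟩ := isRef_of_involution h.le h2 s.2 hs2 hs1
      refine false_of_isRef h hno (Nat.odd_iff.mpr (FiniteField.odd_card_of_char_ne_two ?_)) hq4 hv
      intro hc
      haveI : CharP F 2 := hc ▸ ringChar.charP F
      exact h2 (CharTwo.two_eq_zero)
    rcases exists_two_of_inTr h hq4 hu0 ha0 hua with ⟨v, hv0, hv⟩ | ⟨v, hv0, hv⟩
    · exact two_axes h hq4 (sixteen h) hv0 hv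
    · exact h.of_dual (two_axes h.dual hq4 (sixteen h.dual) hv0 hv)
  · exact Or.inr (le_normalizer_of_solvable h.isField hq4 h.le h.contains (Cfsg.Agent.S0205.result hodd))

/-- The normaliser of a cubic field in `SL₃(q)`, `q ≠ 4`, is maximal. -/
theorem isMaximalIn_field_three (hq4 : q ≠ 4) (K : Subalgebra F (Matrix (Fin 3) (Fin 3) F))
    (hK : Cfsg.Geo.IsFieldSubalgebra 3 K) :
    Cfsg.Geo.IsMaximalIn (Cfsg.Geo.specialLinear (Fin 3) F)
      (Cfsg.Geo.subalgebraNormalizer K ⊓ Cfsg.Geo.specialLinear (Fin 3) F) := by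
  refine ⟨lt_of_le_of_ne inf_le_right fun e => MaxClass.not_le_subalgebraNormalizer (by simp) (by norm_num) hK
    (e ▸ inf_le_left), fun M hM hMS => ?_⟩
  rcases eq_or_eq hq4 ⟨hK, hMS, hM⟩ with e | e
  · exact Or.inr e
  · exact Or.inl (le_antisymm (le_inf e hMS) hM)

end Cfsg.Agent.Lib.SLThree78.Singer
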