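import Cfsg.Agent.Lib.SLThree78.Singer.TwoAxes

/-!
Sixteen elements: at most three lines through a point have three points of its class.
-/

set_option autoImplicit false
set_option linter.unusedSectionVars false

namespace Cfsg.Agent.Lib.SLThree78.Singer

open Matrix Finset

variable {F : Type*} [Field F] [Fintype F] {K : Subalgebra F (Matrix (Fin 3) (Fin 3) F)}

local notation "V₃" => (Fin 3 → F)
local notation "M₃" => Matrix (Fin 3) (Fin 3) F
local notation "q" => Fintype.card F

open scoped Classical in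
theorem three_planes (hK : Cfsg.Geo.IsFieldSubalgebra 3 K) (hq : q = 16) {v a a' : Fin 3 → F} (hv0 : v ≠ 0)
    (ha : a ⬝ᵥ v = 0) (ha' : a' ⬝ᵥ v = 0) (ha0 : a ≠ 0) (hind : a' ∉ Submodule.span F {a})
    (P : Finset (Submodule F (Fin 3 → F)))
    (hP : ∀ W ∈ P, v ∈ W ∧ Module.finrank F W = 2 ∧ N hK W v = 3) : P.card ≤ 3 := by
  by_cases hemp : P = ∅
  · simp [hemp]
  obtain ⟨W₁, hW₁⟩ := nonempty_iff_ne_empty.mpr hemp
  have hne : ¬ ∀ x y : V₃, x ≠ 0 → y ≠ 0 → Same hK x y := fun hall => by
    have h1 := (hP _ hW₁).2.2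
    rw [N_all hK (hP _ hW₁).2.1 hall hv0, hq] at h1
    omega
  have hG : 3 * Nat.card (G0 hK) = q ^ 3 - 1 := by
    obtain ⟨cls, -, -, h3⟩ := class_map hK
    push Not at hne
    exact h3 hne
  have hN : ∀ W : Submodule F V₃, Module.finrank F W = 2 → N hK W v ≤ 7 := fun W hW => by
    rcases N_sixteen hK hW hv0 hq with h | h | h <;> try omega
    push Not at hne
    obtain ⟨b, c, n1, n2, -⟩ := numbers hK hne hW hv0
    rw [h, hq] at n1 n2
    have hb : b = 0 := by omega
    have hc : c = 0 := by omega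
    subst hb hc
    omega
  let e : Option F → V₃ := fun o => o.elim a fun ν => a' - ν • a
  have he0 : ∀ o, e o ≠ 0 := by
    rintro (_ | ν)
    · exact ha0
    · exact fun h => hind (Submodule.mem_span_singleton.mpr ⟨ν, (sub_eq_zero.mp h).symm⟩)
  have hev : ∀ o, e o ⬝ᵥ v = 0 := by
    rintro (_ | ν)
    · exact ha
    · show (a' - ν • a) ⬝ᵥ v = 0
      rw [sub_dotProduct, smul_dotProduct, ha, ha', smul_zero, sub_zero]
  have hcover : ∀ x : V₃, x ∉ Submodule.span F ({v} : Set V₃) → ∃ o, e o ⬝ᵥ x = 0 := by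
    intro x _
    by_cases hx : a ⬝ᵥ x = 0
    · exact ⟨none, hx⟩
    · refine ⟨some ((a' ⬝ᵥ x) / (a ⬝ᵥ x)), ?_⟩
      show (a' - _ • a) ⬝ᵥ x = 0
      rw [sub_dotProduct, smul_dotProduct, smul_eq_mul, div_mul_cancel₀ _ hx, sub_self]
  set T := (univ : Finset (Option F)).filter fun o => planeOf (e o) ∈ P with hT
  have hPT : P.card ≤ T.card := by
    refine (card_le_card (t := T.image fun o => planeOf (e o)) fun W hW => ?_).trans card_image_le
    obtain ⟨hvW, hW2, -⟩ := hP W hW
    obtain ⟨x, hx, hxv⟩ : ∃ x ∈ W, x ∉ Submodule.span F ({v} : Set V₃) := by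
      by_contra hno
      push Not at hno
      have := Submodule.finrank_mono (show W ≤ Submodule.span F ({v} : Set V₃) from hno)
      rw [hW2, finrank_span_singleton hv0] at this
      omega
    obtain ⟨o, ho⟩ := hcover x hxv
    have heq : planeOf (e o) = W := by
      rw [← span_pair_eq_plane (he0 o) hv0 hxv (hev o) ho]
      have hli : LinearIndependent F ![v, x] :=
        (LinearIndependent.pair_iff' hv0).mpr fun t e => hxv (Submodule.mem_span_singleton.mpr ⟨t, e⟩)
      have h2 := finrank_span_eq_card hli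
      rw [Matrix.range_cons, Matrix.range_cons, Matrix.range_empty, Set.union_empty, Set.singleton_union,
        Fintype.card_fin] at h2
      exact Submodule.eq_of_le_of_finrank_le (Submodule.span_le.mpr (by rintro w (rfl | rfl) <;> assumption))
        (by rw [h2, hW2])
    exact mem_image.mpr ⟨o, mem_filter.mpr ⟨mem_univ _, heq.symm ▸ hW⟩, heq⟩
  set mult := (univ.erase (0 : F)).image fun c => c • v with hmult
  have hmc : mult.card = 15 := by
    rw [hmult, card_image_of_injective _ (smul_left_injective F hv0), card_erase_of_mem (mem_univ _), card_univ, hq]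
  have hsub : ∀ o, mult ⊆ cl hK (planeOf (e o)) v := by
    intro o x hx
    obtain ⟨c, hc, rfl⟩ := mem_image.mp hx
    have hc0 := (mem_erase.mp hc).1
    exact (mem_cl hK).mpr ⟨Submodule.smul_mem _ _ (hev o), smul_ne_zero hc0 hv0, Same.smul hK hc0⟩
  have hbig : Nat.card (G0 hK) ≤ (cl hK ⊤ v).card := by
    rw [Nat.card_eq_fintype_card, ← card_univ]
    refine card_le_card_of_injOn (fun g : G0 hK => ((g : GL (Fin 3) F) : M₃) *ᵥ v) (fun g _ => ?_)
      fun g _ g' _ h => Subtype.ext (Units.ext (eq_of_mulVec hK g.2.1 g'.2.1 hv0 h))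
    exact (mem_cl hK).mpr ⟨Submodule.mem_top, ne_zero_vec hK g.2.1 (g : GL (Fin 3) F).ne_zero hv0,
      ⟨g, g.2, rfl⟩⟩
  have hcov : cl hK ⊤ v \ mult ⊆ (univ : Finset (Option F)).biUnion fun o => cl hK (planeOf (e o)) v \ mult := by
    intro x hx
    obtain ⟨hx1, hx2⟩ := mem_sdiff.mp hx
    obtain ⟨-, hx0, hxs⟩ := (mem_cl hK).mp hx1
    obtain ⟨o, ho⟩ := hcover x fun hm => hx2 (by
      obtain ⟨c, rfl⟩ := Submodule.mem_span_singleton.mp hm
      exact mem_image.mpr ⟨c, mem_erase.mpr ⟨fun h => hx0 (by rw [h, zero_smul]), mem_univ _⟩, rfl⟩)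
    exact mem_biUnion.mpr ⟨o, mem_univ _, mem_sdiff.mpr ⟨(mem_cl hK).mpr ⟨ho, hx0, hxs⟩, hx2⟩⟩
  have h1 := (card_le_card hcov).trans card_biUnion_le
  have h2 : ∀ o, (cl hK (planeOf (e o)) v \ mult).card ≤ if o ∈ T then 30 else 90 := by
    intro o
    rw [card_sdiff_of_subset (hsub o), hmc, card_cl, hq]
    split_ifs with ho
    · rw [(hP _ (mem_filter.mp ho).2).2.2]
    · have := hN _ (finrank_planeOf (he0 o))
      omega
  have h3 := h1.trans (sum_le_sum fun o _ => h2 o)
  rw [sum_ite, sum_const, sum_const, filter_mem_eq_inter, univ_inter, filter_not, filter_mem_eq_inter, univ_inter,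
    card_univ_diff, Fintype.card_option, hq] at h3
  have h4 := le_card_sdiff mult (cl hK ⊤ v)
  have hTle : T.card ≤ 17 := by
    refine (card_le_univ T).trans ?_
    rw [Fintype.card_option, hq]
  rw [hmc] at h4
  rw [hq] at hG
  simp only [smul_eq_mul] at h3
  omega

end Cfsg.Agent.Lib.SLThree78.Singer
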