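import Cfsg.Agent.Lib.SLThree78.Core
import Cfsg.Agent.Lib.LinClasses.Singer

/-!
A cubic field of `3 × 3` matrices acting on the points of the plane.
-/

set_option autoImplicit false
set_option linter.unusedSectionVars false

namespace Cfsg.Agent.Lib.SLThree78.Singer

open Matrix

variable {F : Type*} [Field F] [Fintype F] {K : Subalgebra F (Matrix (Fin 3) (Fin 3) F)}

local notation "V₃" => (Fin 3 → F)
local notation "M₃" => Matrix (Fin 3) (Fin 3) F
local notation "q" => Fintype.card F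

/-- A matrix of the field that is not a scalar. -/
def NS (A : M₃) : Prop := ∀ c : F, A ≠ c • 1

variable (hK : Cfsg.Geo.IsFieldSubalgebra 3 K)
include hK

theorem scalar_mem (c : F) : c • (1 : M₃) ∈ K := K.smul_mem K.one_mem c

theorem exists_unit {A : M₃} (hA : A ∈ K) (h0 : A ≠ 0) : ∃ g : GL (Fin 3) F, (g : M₃) = A := by
  obtain ⟨B, -, hAB⟩ := hK.inv A hA h0
  exact ⟨⟨A, B, hAB, mul_eq_one_comm.mp hAB⟩, rfl⟩

theorem ne_zero_vec {A : M₃} (hA : A ∈ K) (h0 : A ≠ 0) {z : V₃} (hz : z ≠ 0) : A *ᵥ z ≠ 0 := fun e =>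
  h0 (congrArg Subtype.val (LinClasses.Singer.act_injective hK (k := ⟨A, hA⟩) hz e))

theorem eq_of_mulVec {A B : M₃} (hA : A ∈ K) (hB : B ∈ K) {z : V₃} (hz : z ≠ 0) (e : A *ᵥ z = B *ᵥ z) :
    A = B :=
  sub_eq_zero.mp (congrArg Subtype.val (LinClasses.Singer.act_injective hK (k := ⟨A - B, K.sub_mem hA hB⟩) hz
    (by show (A - B) *ᵥ z = 0; rw [sub_mulVec, e, sub_self])))

theorem exists_mulVec {z : V₃} (hz : z ≠ 0) (z' : V₃) : ∃ A ∈ K, A *ᵥ z = z' := by
  let φ : K →ₗ[F] V₃ :=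
    { toFun := fun k => (k : M₃) *ᵥ z
      map_add' := fun a b => by simp [Matrix.add_mulVec]
      map_smul' := fun c a => by simp [Matrix.smul_mulVec] }
  have hinj : Function.Injective φ :=
    (injective_iff_map_eq_zero φ).2 fun k hk => LinClasses.Singer.act_injective hK hz hk
  obtain ⟨k, hk⟩ := (LinearMap.injective_iff_surjective_of_finrank_eq_finrank
    (by rw [hK.finrank_eq, Module.finrank_fin_fun])).mp hinj z'
  exact ⟨k, k.2, hk⟩

theorem unit_mem_normalizer {g : GL (Fin 3) F} (hg : (g : M₃) ∈ K) :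
    g ∈ Cfsg.Geo.subalgebraNormalizer K := by
  have hg' : ((g⁻¹ : GL (Fin 3) F) : M₃) ∈ K := by
    obtain ⟨B, hB, e⟩ := hK.inv _ hg g.ne_zero
    rwa [Units.inv_eq_of_mul_eq_one_right e]
  intro k
  refine ⟨fun hk => K.mul_mem (K.mul_mem hg hk) hg', fun h => ?_⟩
  have h' := K.mul_mem (K.mul_mem hg' h) hg
  rwa [← mul_assoc, ← mul_assoc, Units.inv_mul, one_mul, mul_assoc, Units.inv_mul, mul_one] at h'

theorem quad {A : M₃} (hA : A ∈ K) (hns : NS A) {a b c : F}
    (e : a • (A * A) + b • A + c • (1 : M₃) = 0) : a = 0 ∧ b = 0 ∧ c = 0 := by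
  have h0 : A ≠ 0 := fun e0 => hns 0 (by rw [e0, zero_smul])
  obtain ⟨g, hg⟩ := exists_unit hK hA h0
  have h3 := LinClasses.Singer.le_natDegree_minpoly Nat.prime_three hK
    (unit_mem_normalizer hK (g := g) (hg.symm ▸ hA)) (fun k => hg.symm ▸ hns k)
  rw [hg] at h3
  have hP : Polynomial.C a * Polynomial.X ^ 2 + Polynomial.C b * Polynomial.X + Polynomial.C c = 0 := by
    by_contra hne
    have hd := Polynomial.natDegree_le_of_dvd (minpoly.dvd F A (p := Polynomial.C a * Polynomial.X ^ 2 +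
      Polynomial.C b * Polynomial.X + Polynomial.C c) (by
        simp only [map_add, map_mul, Polynomial.aeval_C, map_pow, Polynomial.aeval_X]
        rw [← Algebra.smul_def, ← Algebra.smul_def, Algebra.algebraMap_eq_smul_one, sq]
        exact e)) hne
    have := Polynomial.natDegree_quadratic_le (a := a) (b := b) (c := c)
    omega
  refine ⟨?_, ?_, ?_⟩
  · simpa [Polynomial.coeff_X_pow, Polynomial.coeff_C] using congrArg (fun P => Polynomial.coeff P 2) hP
  · simpa [Polynomial.coeff_X_pow, Polynomial.coeff_C] using congrArg (fun P => Polynomial.coeff P 1) hP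
  · simpa [Polynomial.coeff_X_pow, Polynomial.coeff_C] using congrArg (fun P => Polynomial.coeff P 0) hP

/-- The centraliser of one element of the field that is not a scalar is the field. -/
theorem mem_of_commute_one {A : M₃} (hA : A ∈ K) (hns : NS A) {B : M₃} (h : B * A = A * B) : B ∈ K := by
  refine LinClasses.Singer.mem_of_commute hK fun k hk => ?_
  let v : Fin 3 → K := ![1, ⟨A, hA⟩, ⟨A * A, K.mul_mem hA hA⟩]
  have hli : LinearIndependent F v := by
    rw [Fintype.linearIndependent_iff]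
    intro c hc
    rw [Fin.sum_univ_three] at hc
    have hc' : c 0 • (1 : M₃) + c 1 • A + c 2 • (A * A) = 0 := congrArg Subtype.val hc
    obtain ⟨h2, h1, h0⟩ := quad hK hA hns (a := c 2) (b := c 1) (c := c 0) (by rw [← hc']; abel)
    exact fun i => by fin_cases i <;> assumption
  have hs := hli.span_eq_top_of_card_eq_finrank (by rw [Fintype.card_fin, hK.finrank_eq])
  have hk' : (⟨k, hk⟩ : K) ∈ Submodule.span F (Set.range v) := hs ▸ Submodule.mem_top
  obtain ⟨c, hc⟩ := Submodule.mem_span_range_iff_exists_fun F |>.mp hk'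
  rw [Fin.sum_univ_three] at hc
  have hc' : c 0 • (1 : M₃) + c 1 • A + c 2 • (A * A) = k := congrArg Subtype.val hc
  have h2 : B * (A * A) = A * A * B := by rw [← mul_assoc, h, mul_assoc, h, mul_assoc]
  simp only [← hc', mul_add, add_mul, mul_smul_comm, smul_mul_assoc, h, h2, mul_one, one_mul]

/-- A non-scalar element of the field stabilises no plane. -/
theorem not_stable_plane {W : Submodule F V₃} (hW : Module.finrank F W = 2) {A : M₃} (hA : A ∈ K) (hns : NS A) :
    ∃ x ∈ W, A *ᵥ x ∉ W := by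
  by_contra hno
  push Not at hno
  obtain ⟨x, hx, hx0⟩ := W.ne_bot_iff.mp (fun e => by rw [e, finrank_bot] at hW; omega)
  have h : ¬ LinearIndependent F ![x, A *ᵥ x, A *ᵥ (A *ᵥ x)] := fun hli => by
    have hle : Submodule.span F (Set.range ![x, A *ᵥ x, A *ᵥ (A *ᵥ x)]) ≤ W := Submodule.span_le.mpr (by
      rintro _ ⟨i, rfl⟩
      fin_cases i
      · exact hx
      · exact hno x hx
      · exact hno _ (hno x hx))
    have := Submodule.finrank_mono hle
    rw [finrank_span_eq_card hli, Fintype.card_fin, hW] at this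
    omega
  rw [Fintype.linearIndependent_iff] at h
  push Not at h
  obtain ⟨c, hc, i, hi⟩ := h
  rw [Fin.sum_univ_three] at hc
  simp only [Matrix.cons_val_zero, Matrix.cons_val_one, Matrix.cons_val] at hc
  obtain ⟨h2, h1, h0⟩ := quad hK hA hns (a := c 2) (b := c 1) (c := c 0) (eq_of_mulVec hK
    (K.add_mem (K.add_mem (K.smul_mem (K.mul_mem hA hA) _) (K.smul_mem hA _)) (scalar_mem hK _)) K.zero_mem
    hx0 (by rw [zero_mulVec, ← hc, add_mulVec, add_mulVec, smul_mulVec, smul_mulVec, smul_mulVec, one_mulVec,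
      mulVec_mulVec]; abel))
  fin_cases i <;> simp_all

/-- The units of the field. -/
def KU : Subgroup (GL (Fin 3) F) where
  carrier := {g | (g : M₃) ∈ K}
  one_mem' := K.one_mem
  mul_mem' := fun {a b} ha hb => K.mul_mem (x := (a : M₃)) (y := (b : M₃)) ha hb
  inv_mem' := fun {g} hg => by
    obtain ⟨B, hB, e⟩ := hK.inv _ hg g.ne_zero
    show ((g⁻¹ : GL (Fin 3) F) : M₃) ∈ K
    rwa [Units.inv_eq_of_mul_eq_one_right e]

theorem mem_KU {g : GL (Fin 3) F} : g ∈ KU hK ↔ (g : M₃) ∈ K := Iff.rfl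

theorem KU_comm {g h : GL (Fin 3) F} (hg : g ∈ KU hK) (hh : h ∈ KU hK) : g * h = h * g :=
  Units.ext (by rw [Units.val_mul, Units.val_mul]; exact hK.comm _ hg _ hh)

/-- The nonzero vectors are the units of the field, after choosing one of them. -/
theorem exists_orbit_equiv {z : V₃} (hz : z ≠ 0) :
    ∃ e : KU hK ≃ {x : V₃ // x ≠ 0}, ∀ g : KU hK, ((e g : {x : V₃ // x ≠ 0}) : V₃) =
      ((g : GL (Fin 3) F) : M₃) *ᵥ z := by
  refine ⟨Equiv.ofBijective (fun g => ⟨((g : GL (Fin 3) F) : M₃) *ᵥ z,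
    ne_zero_vec hK g.2 (g : GL (Fin 3) F).ne_zero hz⟩) ⟨fun a b e => ?_, fun x => ?_⟩, fun g => rfl⟩
  · exact Subtype.ext (Units.ext (eq_of_mulVec hK a.2 b.2 hz (congrArg Subtype.val e)))
  · obtain ⟨A, hA, e⟩ := exists_mulVec hK hz x.1
    obtain ⟨g, hg⟩ := exists_unit hK hA (fun h => x.2 (by rw [← e, h, zero_mulVec]))
    exact ⟨⟨g, show (g : M₃) ∈ K from hg.symm ▸ hA⟩, Subtype.ext (by show (g : M₃) *ᵥ z = x.1; rw [hg, e])⟩

/-- The units of the field with a cube as determinant. -/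
def G0 : Subgroup (GL (Fin 3) F) :=
  KU hK ⊓ ((powMonoidHom 3 : Fˣ →* Fˣ).range).comap Matrix.GeneralLinearGroup.det

/-- The two vectors differ by an element of `G0`. -/
def Same (z z' : V₃) : Prop := ∃ g ∈ G0 hK, (g : M₃) *ᵥ z = z'

theorem Same.refl (z : V₃) : Same hK z z := ⟨1, one_mem _, one_mulVec z⟩

theorem Same.symm {z z' : V₃} (h : Same hK z z') : Same hK z' z := by
  obtain ⟨g, hg, rfl⟩ := h
  exact ⟨g⁻¹, inv_mem hg, by rw [mulVec_mulVec, ← Units.val_mul, inv_mul_cancel, Units.val_one, one_mulVec]⟩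

theorem Same.trans {z z' z'' : V₃} (h : Same hK z z') (h' : Same hK z' z'') : Same hK z z'' := by
  obtain ⟨g, hg, rfl⟩ := h
  obtain ⟨g', hg', rfl⟩ := h'
  exact ⟨g' * g, mul_mem hg' hg, by rw [Units.val_mul, mulVec_mulVec]⟩

/-- The scalar as a unit of the field. -/
def sc (c : Fˣ) : GL (Fin 3) F := Matrix.GeneralLinearGroup.scalar (Fin 3) c

omit hK in
theorem sc_coe (c : Fˣ) : (sc c : M₃) = (c : F) • 1 := by
  show Matrix.scalar (Fin 3) (c : F) = _
  rw [Matrix.scalar_apply, Matrix.smul_one_eq_diagonal]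

theorem sc_mem_G0 (c : Fˣ) : sc c ∈ G0 hK := by
  refine ⟨show (sc c : M₃) ∈ K by rw [sc_coe]; exact scalar_mem hK _, ⟨c, Units.ext ?_⟩⟩
  show (c : F) ^ 3 = (Matrix.GeneralLinearGroup.det (sc c) : Fˣ)
  rw [Matrix.GeneralLinearGroup.val_det_apply, sc_coe, det_smul, det_one, mul_one, Fintype.card_fin]

theorem Same.smul {z : V₃} {c : F} (hc : c ≠ 0) : Same hK z (c • z) :=
  ⟨_, sc_mem_G0 hK (Units.mk0 c hc), by rw [sc_coe, smul_mulVec, one_mulVec, Units.val_mk0]⟩

end Cfsg.Agent.Lib.SLThree78.Singer
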