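import Cfsg.Agent.Lib.SLThree78.Singer.TwoAxes

/-!
Transvections in an overgroup of the normaliser of a cubic field: some centre has two axes or some axis two
centres.
-/

set_option autoImplicit false
set_option linter.unusedSectionVars false

namespace Cfsg.Agent.Lib.SLThree78.Singer

open Matrix
open Cfsg.Agent.Lib.SubfieldMax (InTr)

variable {F : Type*} [Field F] [Fintype F] {K : Subalgebra F (Matrix (Fin 3) (Fin 3) F)}
  {H : Subgroup (GL (Fin 3) F)}

local notation "V₃" => (Fin 3 → F)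
local notation "M₃" => Matrix (Fin 3) (Fin 3) F
local notation "q" => Fintype.card F

theorem arith_seven' {a b c : ℕ} (h1 : a + b + c = 8) (h2 : 3 * (a ^ 2 + b ^ 2 + c ^ 2) = 78) :
    1 ≤ a ∧ a ≤ 4 := by
  obtain rfl : c = 8 - a - b := by omega
  have ha : a ≤ 8 := by omega
  have hb : b ≤ 8 := by omega
  revert h1 h2
  interval_cases a <;> interval_cases b <;> decide

variable (h : Over K H)
include h

/-- A class point on a plane, moved there inside `H`. -/
theorem exists_translate {W : Submodule F (Fin 3 → F)} {z : Fin 3 → F} (hN : 1 ≤ N h.isField W z) :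
    ∃ w ∈ W, w ≠ 0 ∧ Same h.isField z w := by
  obtain ⟨s, hs, -⟩ := exists_points h.isField hN
  exact ⟨s 0, ((mem_cl h.isField).mp (hs 0)).1, ((mem_cl h.isField).mp (hs 0)).2.1,
    ((mem_cl h.isField).mp (hs 0)).2.2⟩

theorem exists_axis {z w a : Fin 3 → F} (hs : Same h.isField z w) (ha : InTr H z a) (ha0 : a ≠ 0) :
    ∃ e, InTr H w e ∧ e ≠ 0 := by
  obtain ⟨g, hg, -, c, hc, e⟩ := h.same_move hs
  have h1 := ha.conj hg
  rw [e] at h1
  have h2 := InTr.scale (c := c⁻¹) (d := c) (inv_mul_cancel₀ hc) h1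
  rw [smul_smul, inv_mul_cancel₀ hc, one_smul] at h2
  refine ⟨_, h2, smul_ne_zero hc fun e0 => ha0 ?_⟩
  have := congrArg (· ᵥ* (g : M₃)) e0
  simpa [vecMul_vecMul, Units.inv_mul] using this

theorem exists_two_of_inTr (hq4 : q ≠ 4) {u a : Fin 3 → F} (hu0 : u ≠ 0) (ha0 : a ≠ 0) (hua : InTr H u a) :
    (∃ v, v ≠ 0 ∧ Two H v) ∨ ∃ v, v ≠ 0 ∧ Two (H.map tinv.toMonoidHom) v := by
  by_contra hno
  push Not at hno
  obtain ⟨h1, h2⟩ := hno
  have hK := h.isField
  -- the only centre on an axis is its own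
  have key : ∀ (u' a' w e : V₃), u' ≠ 0 → a' ≠ 0 → InTr H u' a' → w ≠ 0 → e ≠ 0 → InTr H w e →
      a' ⬝ᵥ w = 0 → w ∈ Submodule.span F {u'} := by
    intro u' a' w e hu' ha' hua' hw0 he0 hwe haw
    by_contra hwu
    by_cases heu : e ⬝ᵥ u' = 0
    · obtain ⟨t, rfl⟩ := Submodule.mem_span_singleton.mp
        (mem_span_of_two_points ha' hu' hwu hua'.1 haw heu hwe.1)
      refine h2 a' ha' ⟨u', t • w, InTr.dual hua', InTr.dual (inTr_swap' haw hwe), hu', fun hm => hwu ?_⟩
      obtain ⟨s, hs⟩ := Submodule.mem_span_singleton.mp hm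
      have ht : t ≠ 0 := fun e' => he0 (by rw [e', zero_smul])
      exact Submodule.mem_span_singleton.mpr ⟨t⁻¹ * s, by
        rw [← smul_smul, hs, smul_smul, inv_mul_cancel₀ ht, one_smul]⟩
    · refine h1 w hw0 ⟨e, (e ⬝ᵥ u') • a', hwe, hua'.commCentre hwe haw, he0, fun hm => ?_⟩
      obtain ⟨s, hs⟩ := Submodule.mem_span_singleton.mp hm
      have := congrArg (· ⬝ᵥ u') hs
      simp only [smul_dotProduct, hua'.1, smul_zero, mul_zero, smul_eq_mul] at this
      have hs0 : s ≠ 0 := fun e0 => by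
        rw [e0, zero_smul, eq_comm, smul_eq_zero] at hs
        exact hs.elim heu ha'
      exact heu ((mul_eq_zero.mp this).resolve_left hs0)
  have hW := finrank_planeOf ha0
  have hle : N hK (planeOf a) u ≤ 1 := by
    by_contra hgt
    obtain ⟨s, hs, hind⟩ := exists_points hK (W := planeOf a) (z := u) (k := 2) (by omega)
    have hmem : ∀ i, s i ∈ Submodule.span F ({u} : Set V₃) := fun i => by
      obtain ⟨hsW, hs0, hsu⟩ := (mem_cl hK).mp (hs i)
      obtain ⟨e, he, he0⟩ := exists_axis h hsu hua ha0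
      exact key u a _ e hu0 ha0 hua hs0 he0 he hsW
    obtain ⟨t, ht⟩ := Submodule.mem_span_singleton.mp (hmem 0)
    obtain ⟨r, hr⟩ := Submodule.mem_span_singleton.mp (hmem 1)
    have ht0 : t ≠ 0 := fun e => ((mem_cl hK).mp (hs 0)).2.1 (by rw [← ht, e, zero_smul])
    exact hind 0 1 (by decide) (Submodule.mem_span_singleton.mpr ⟨r * t⁻¹, by
      rw [← ht, smul_smul, mul_assoc, inv_mul_cancel₀ ht0, mul_one, hr]⟩)
  have hq1 : 1 < q := Fintype.one_lt_card
  have hprime : q = 7 ∧ ¬ ∀ x y : V₃, x ≠ 0 → y ≠ 0 → Same hK x y := by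
    by_cases hall : ∀ x y : V₃, x ≠ 0 → y ≠ 0 → Same hK x y
    · rw [N_all hK hW hall hu0] at hle; omega
    refine ⟨?_, hall⟩
    by_contra h7
    by_cases h8 : 8 ≤ q
    · have := two_le_N hK hW hu0 (Or.inl h8); omega
    · have hmod : q % 3 = 1 := by by_contra hne; exact hall (all_same hK hne)
      omega
  obtain ⟨h7, hall⟩ := hprime
  have hall' := hall
  push Not at hall'
  -- all centres are in the class of `u`
  have hclass : ∀ y e : V₃, y ≠ 0 → e ≠ 0 → InTr H y e → Same hK u y := by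
    intro y e hy0 he0 hye
    obtain ⟨b, c, n1, n2, -⟩ := numbers hK hall' hW hy0
    rw [h7] at n1 n2
    obtain ⟨w, hwW, hw0, hwy⟩ := exists_translate h (arith_seven' n1 n2).1
    obtain ⟨e', he', he'0⟩ := exists_axis h hwy hye he0
    obtain ⟨t, ht⟩ := Submodule.mem_span_singleton.mp (key u a w e' hu0 ha0 hua hw0 he'0 he' hwW)
    have ht0 : t ≠ 0 := fun e => hw0 (by rw [← ht, e, zero_smul])
    exact ((Same.smul hK (z := u) ht0).trans hK (ht ▸ Same.refl hK _)).trans hK (hwy.symm hK)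
  obtain ⟨g, hg, hgK, hns⟩ := h.exists_nonscalar
  obtain ⟨e, he, he0⟩ : ∃ e, InTr H ((g : M₃) *ᵥ u) e ∧ e ≠ 0 := by
    refine ⟨_, hua.conj hg, fun e0 => ha0 ?_⟩
    have := congrArg (· ᵥ* (g : M₃)) e0
    simpa [vecMul_vecMul, Units.inv_mul] using this
  set w := (g : M₃) *ᵥ u
  have hw0 : w ≠ 0 := ne_zero_vec hK hgK g.ne_zero hu0
  have haw : a ⬝ᵥ w ≠ 0 := fun haw => by
    obtain ⟨t, ht⟩ := Submodule.mem_span_singleton.mp (key u a w e hu0 ha0 hua hw0 he0 he haw)
    exact hns t (eq_of_mulVec hK hgK (scalar_mem hK t) hu0 (by rw [smul_mulVec, one_mulVec]; exact ht.symm))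
  haveI : Fact (Nat.Prime 7) := ⟨by norm_num⟩
  haveI : CharP F 7 := charP_of_card_eq_prime h7
  have hmove : ∀ x : F, ∃ e', InTr H (w + x • u) e' ∧ e' ≠ 0 := by
    intro x
    obtain ⟨k, hk⟩ : ∃ k : ℕ, (k : F) = x / (a ⬝ᵥ w) := by
      refine ⟨((ZMod.ringEquiv F h7).symm (x / (a ⬝ᵥ w))).val, ?_⟩
      rw [← map_natCast (ZMod.ringEquiv F h7), ZMod.natCast_zmod_val, RingEquiv.apply_symm_apply]
    obtain ⟨hd, hm⟩ : InTr H u ((k : F) • a) := by
      clear hk
      induction k with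
      | zero => rw [Nat.cast_zero, zero_smul]; exact InTr.zero_right _
      | succ n ih => rw [Nat.cast_succ, add_smul, one_smul]; exact ih.add hua
    refine ⟨_, (he.conj hm).congr ?_ rfl, fun e0 => he0 ?_⟩
    · rw [FormMax.Tr_mulVec, smul_dotProduct, hk, smul_eq_mul, div_mul_cancel₀ _ haw]
    · have := congrArg (· ᵥ* (FormMax.Tr u ((k : F) • a) hd : M₃)) e0
      simpa [vecMul_vecMul, Units.inv_mul] using this
  have hwu : w ∉ Submodule.span F ({u} : Set V₃) := fun hm => by
    obtain ⟨t, ht⟩ := Submodule.mem_span_singleton.mp hm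
    exact haw (by rw [← ht, dotProduct_smul, hua.1, smul_zero])
  set W := Submodule.span F ({u, w} : Set V₃) with hWdef
  have hW2 : Module.finrank F W = 2 := by
    have hli : LinearIndependent F ![u, w] :=
      (LinearIndependent.pair_iff' hu0).mpr fun t e => hwu (Submodule.mem_span_singleton.mpr ⟨t, e⟩)
    have h2 := finrank_span_eq_card hli
    rwa [Matrix.range_cons, Matrix.range_cons, Matrix.range_empty, Set.union_empty, Set.singleton_union,
      Fintype.card_fin] at h2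
  obtain ⟨b, c, n1, n2, -⟩ := numbers hK hall' hW2 hu0
  rw [h7] at n1 n2
  have hN4 := (arith_seven' n1 n2).2
  have hfull : N hK W u = q + 1 := by
    classical
    refine Nat.eq_of_mul_eq_mul_left (show 0 < q - 1 by omega) ?_
    rw [← card_cl, show cl hK W u = Finset.univ.filter (fun x : V₃ => x ∈ W ∧ x ≠ 0) by
      ext x
      simp only [mem_cl, Finset.mem_filter, Finset.mem_univ, true_and]
      refine ⟨fun ⟨hx, hx0, _⟩ => ⟨hx, hx0⟩, fun ⟨hx, hx0⟩ => ⟨hx, hx0, ?_⟩⟩
      obtain ⟨α, β, rfl⟩ := Submodule.mem_span_pair.mp hx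
      by_cases hβ : β = 0
      · subst hβ
        rw [zero_smul, add_zero] at hx0 ⊢
        exact Same.smul hK fun e => hx0 (by rw [e, zero_smul])
      · obtain ⟨e', he', he'0⟩ := hmove (α / β)
        have hne : w + (α / β) • u ≠ 0 := fun e0 => hwu (Submodule.mem_span_singleton.mpr ⟨-(α / β), by
          rw [neg_smul]; exact (eq_neg_of_add_eq_zero_left e0).symm⟩)
        have e1 : α • u + β • w = β • (w + (α / β) • u) := by
          rw [smul_add, smul_smul, mul_div_cancel₀ α hβ, add_comm]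
        rw [e1]
        exact (hclass _ _ hne he'0 he').trans hK (Same.smul hK hβ), card_plane hW2, mul_comm, ← Nat.sq_sub_sq,
      one_pow]
  omega

end Cfsg.Agent.Lib.SLThree78.Singer
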