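import Cfsg.Agent.Lib.SLThree78.Singer.Invol

/-!
A centre with two independent axes in an overgroup of the normaliser of a cubic field.
-/

set_option autoImplicit false
set_option linter.unusedSectionVars false

namespace Cfsg.Agent.Lib.SLThree78.Singer

open Matrix
open Cfsg.Agent.Lib.SubfieldMax (InTr)

variable {F : Type*} [Field F] [Fintype F] {K : Subalgebra F (Matrix (Fin 3) (Fin 3) F)}
  {H : Subgroup (GL (Fin 3) F)}

local notation "V₃" => (Fin 3 → F)
local notation "M₃" => Matrix (Fin 3) (Fin 3) F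
local notation "q" => Fintype.card F
local notation "SL₃F" => Cfsg.Geo.specialLinear (Fin 3) F

/-- A centre with two independent axes. -/
def Two (H : Subgroup (GL (Fin 3) F)) (v : Fin 3 → F) : Prop :=
  ∃ a b : Fin 3 → F, InTr H v a ∧ InTr H v b ∧ a ≠ 0 ∧ b ∉ Submodule.span F {a}

theorem mem_span_of_plane {a b : V₃} (ha : a ≠ 0) (hab : ∀ x, a ⬝ᵥ x = 0 → b ⬝ᵥ x = 0) :
    b ∈ Submodule.span F {a} := by
  obtain ⟨i, hi⟩ := Function.ne_iff.mp ha
  refine Submodule.mem_span_singleton.mpr ⟨b i / a i, dotProduct_eq _ _ fun x => ?_⟩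
  have h0 := hab (x - ((a ⬝ᵥ x) / a i) • Pi.single i 1) (by
    rw [dotProduct_sub, dotProduct_smul, dotProduct_single, mul_one, smul_eq_mul, div_mul_cancel₀ _ hi, sub_self])
  rw [dotProduct_sub, dotProduct_smul, dotProduct_single, mul_one, smul_eq_mul, sub_eq_zero] at h0
  rw [smul_dotProduct, smul_eq_mul, h0]
  ring

theorem span_pair_eq_plane {a x y : V₃} (ha : a ≠ 0) (hx0 : x ≠ 0) (hxy : y ∉ Submodule.span F {x})
    (hax : a ⬝ᵥ x = 0) (hay : a ⬝ᵥ y = 0) : Submodule.span F ({x, y} : Set V₃) = planeOf a := by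
  have hli : LinearIndependent F ![x, y] :=
    (LinearIndependent.pair_iff' hx0).mpr fun t e => hxy (Submodule.mem_span_singleton.mpr ⟨t, e⟩)
  have h2 := finrank_span_eq_card hli
  rw [Matrix.range_cons, Matrix.range_cons, Matrix.range_empty, Set.union_empty, Set.singleton_union,
    Fintype.card_fin] at h2
  exact Submodule.eq_of_le_of_finrank_le (Submodule.span_le.mpr (by rintro w (rfl | rfl) <;> assumption))
    (by rw [finrank_planeOf ha, h2])

theorem mem_span_of_two_points {a b x y : V₃} (ha : a ≠ 0) (hx0 : x ≠ 0) (hxy : y ∉ Submodule.span F {x})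
    (hax : a ⬝ᵥ x = 0) (hay : a ⬝ᵥ y = 0) (hbx : b ⬝ᵥ x = 0) (hby : b ⬝ᵥ y = 0) :
    b ∈ Submodule.span F {a} := by
  refine mem_span_of_plane ha fun z hz => ?_
  have hle := span_pair_eq_plane ha hx0 hxy hax hay
  obtain ⟨s, t, rfl⟩ := Submodule.mem_span_pair.mp (hle.symm ▸ hz : z ∈ Submodule.span F ({x, y} : Set V₃))
  rw [dotProduct_add, dotProduct_smul, dotProduct_smul, hbx, hby, smul_zero, smul_zero, add_zero]

theorem inTr_swap' {x y : V₃} {c : F} (hd : y ⬝ᵥ x = 0) (h : InTr H x (c • y)) : InTr H (c • x) y := by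
  by_cases hc : c = 0
  · subst hc; rw [zero_smul]; exact InTr.zero_left _
  · exact h.swap' hc

theorem inTr_negCentre {x y : V₃} (h : InTr H x y) : InTr H (-x) y := by
  have := (InTr.scale (c := (-1 : F)) (d := -1) (by ring) h).neg
  rwa [neg_one_smul, neg_one_smul, neg_neg] at this

/-- Conjugating along an axis through a centre. -/
theorem shear {z c a e : V₃} (hz : InTr H z a) (hc : InTr H c e) (hac : a ⬝ᵥ c = 0) :
    InTr H ((e ⬝ᵥ z) • c) a := by
  have h2 := hc.conjTr hz
  rw [hac, zero_smul, sub_zero] at h2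
  exact (InTr.addCentre h2 (inTr_negCentre hz)).congr (by abel) rfl

theorem Two.off {u v : V₃} (hu0 : u ≠ 0) (hu : Two H u) (hv : v ∉ Submodule.span F {u}) :
    ∃ b, InTr H u b ∧ b ⬝ᵥ v ≠ 0 := by
  obtain ⟨a, b, ha, hb, ha0, hba⟩ := hu
  by_contra hno
  push Not at hno
  exact hba (mem_span_of_two_points ha0 hu0 hv ha.1 (hno a ha) hb.1 (hno b hb))

theorem Two.smul {v : V₃} (hv : Two H v) {c : F} (hc : c ≠ 0) : Two H (c • v) := by
  obtain ⟨a, b, ha, hb, ha0, hba⟩ := hv
  refine ⟨c⁻¹ • a, c⁻¹ • b, InTr.scale (mul_inv_cancel₀ hc) ha, InTr.scale (mul_inv_cancel₀ hc) hb,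
    smul_ne_zero (inv_ne_zero hc) ha0, fun hm => ?_⟩
  obtain ⟨t, ht⟩ := Submodule.mem_span_singleton.mp hm
  rw [smul_comm, (smul_right_injective V₃ (inv_ne_zero hc)).eq_iff] at ht
  exact hba (Submodule.mem_span_singleton.mpr ⟨t, ht⟩)

theorem Two.conj {v : V₃} (hv : Two H v) {g : GL (Fin 3) F} (hg : g ∈ H) : Two H ((g : M₃) *ᵥ v) := by
  obtain ⟨a, b, ha, hb, ha0, hba⟩ := hv
  have hinj : ∀ x : V₃, (x ᵥ* ((g⁻¹ : GL (Fin 3) F) : M₃)) ᵥ* (g : M₃) = x := fun x => by
    rw [vecMul_vecMul, Units.inv_mul, vecMul_one]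
  refine ⟨_, _, ha.conj hg, hb.conj hg, fun e => ha0 (by rw [← hinj a, e, zero_vecMul]), fun hm => ?_⟩
  obtain ⟨t, ht⟩ := Submodule.mem_span_singleton.mp hm
  refine hba (Submodule.mem_span_singleton.mpr ⟨t, ?_⟩)
  rw [← hinj b, ← ht, smul_vecMul, hinj]

theorem Two.same (h : Over K H) {v w : V₃} (hv : Two H v) (hs : Same h.isField v w) : Two H w := by
  obtain ⟨g, hg, -, c, hc, e⟩ := h.same_move hs
  have := (hv.conj hg).smul (inv_ne_zero hc)
  rwa [e, smul_smul, inv_mul_cancel₀ hc, one_smul] at this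

/-- The multipliers of the multiples of an axis at a centre. -/
def rSub (H : Subgroup (GL (Fin 3) F)) (v a : Fin 3 → F) : Subfield F where
  carrier := {μ | ∀ l : F, InTr H v (l • a) → InTr H v ((μ * l) • a)}
  mul_mem' := fun {x y} hx hy l hl => by rw [mul_assoc]; exact hx _ (hy l hl)
  one_mem' := fun l hl => by rwa [one_mul]
  add_mem' := fun {x y} hx hy l hl => by rw [add_mul, add_smul]; exact (hx l hl).add (hy l hl)
  zero_mem' := fun l hl => by rw [zero_mul, zero_smul]; exact InTr.zero_right _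
  neg_mem' := fun {x} hx l hl => by rw [neg_mul, neg_smul]; exact (hx l hl).neg
  inv_mem' := fun x hx => by
    by_cases h0 : x = 0
    · subst h0; rw [_root_.inv_zero]; intro l hl; rw [zero_mul, zero_smul]; exact InTr.zero_right _
    · have hpow : ∀ n : ℕ, ∀ l : F, InTr H v (l • a) → InTr H v ((x ^ n * l) • a) := by
        intro n
        induction n with
        | zero => intro l hl; rwa [pow_zero, one_mul]
        | succ n ih => intro l hl; rw [pow_succ', mul_assoc]; exact hx _ (ih l hl)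
      have e : x⁻¹ = x ^ (q - 2) := by
        refine inv_eq_of_mul_eq_one_right ?_
        have hq : 1 < q := Fintype.one_lt_card
        rw [← pow_succ', show q - 2 + 1 = q - 1 by omega, FiniteField.pow_card_sub_one_eq_one x h0]
      intro l hl
      rw [e]
      exact hpow _ l hl

theorem mem_rSub {v a : V₃} {μ : F} :
    μ ∈ rSub H v a ↔ ∀ l : F, InTr H v (l • a) → InTr H v ((μ * l) • a) := Iff.rfl

section

variable {v a a' u b : Fin 3 → F} (hv0 : v ≠ 0) (ha : InTr H v a) (ha' : InTr H v a') (ha0 : a ≠ 0)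
  (hind : a' ∉ Submodule.span F {a}) (hau : a ⬝ᵥ u = 0) (hb : InTr H u b) (hbv : b ⬝ᵥ v ≠ 0)
include hv0 ha ha' ha0 hind hau hb hbv

theorem not_mem_span : u ∉ Submodule.span F {v} ∨ u = 0 := by
  by_cases hu : u = 0
  · exact Or.inr hu
  · refine Or.inl fun hm => ?_
    obtain ⟨t, ht⟩ := Submodule.mem_span_singleton.mp hm
    have ht0 : t ≠ 0 := fun e => hu (by rw [← ht, e, zero_smul])
    have := hb.1
    rw [← ht, dotProduct_smul, smul_eq_mul] at this
    exact hbv ((mul_eq_zero.mp this).resolve_left ht0)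

theorem pairing_ne_zero (hu0 : u ≠ 0) : a' ⬝ᵥ u ≠ 0 := fun e =>
  hind (mem_span_of_two_points ha0 hv0
    ((not_mem_span hv0 ha ha' ha0 hind hau hb hbv).resolve_right hu0) ha.1 hau ha'.1 e)

/-- Every centre with two axes on the axis is a rational combination. -/
theorem param (hu0 : u ≠ 0) {w : V₃} (haw : a ⬝ᵥ w = 0) (hw : Two H w) (hwv : w ∉ Submodule.span F {v}) :
    ∃ x ∈ rSub H v a, w ∈ Submodule.span F {u + ((b ⬝ᵥ v)⁻¹ * x) • v} := by
  have huv := (not_mem_span hv0 ha ha' ha0 hind hau hb hbv).resolve_right hu0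
  have hvu : v ∉ Submodule.span F {u} := fun hm => hbv (by
    obtain ⟨t, rfl⟩ := Submodule.mem_span_singleton.mp hm
    rw [dotProduct_smul, hb.1, smul_zero])
  have hP := pairing_ne_zero hv0 ha ha' ha0 hind hau hb hbv hu0
  obtain ⟨α, β, hαβ⟩ : ∃ α β : F, α • u + β • v = w := by
    have hle := span_pair_eq_plane ha0 hu0 hvu hau ha.1
    exact Submodule.mem_span_pair.mp (hle.symm ▸ haw : w ∈ Submodule.span F ({u, v} : Set V₃))
  have hα : α ≠ 0 := fun e => hwv (by
    rw [← hαβ, e, zero_smul, zero_add]; exact Submodule.smul_mem _ _ (Submodule.mem_span_singleton_self v))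
  set x := β / α
  set u1 := u + x • v with hu1
  have hw1 : w = α • u1 := by rw [← hαβ, hu1, smul_add, smul_smul, mul_div_cancel₀ β hα]
  have hu1' : Two H u1 := by
    have := hw.smul (inv_ne_zero hα)
    rwa [hw1, smul_smul, inv_mul_cancel₀ hα, one_smul] at this
  have hvu1 : v ∉ Submodule.span F {u1} := fun hm => by
    obtain ⟨t, ht⟩ := Submodule.mem_span_singleton.mp hm
    have ht0 : t ≠ 0 := fun e => hv0 (by rw [← ht, e, zero_smul])
    exact hwv (Submodule.mem_span_singleton.mpr ⟨α * t⁻¹, by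
      rw [← ht, smul_smul, mul_assoc, inv_mul_cancel₀ ht0, mul_one, hw1]⟩)
  have hu10 : u1 ≠ 0 := fun e => hwv (by rw [hw1, e, smul_zero]; exact Submodule.zero_mem _)
  obtain ⟨b1, hb1, hb1v⟩ := hu1'.off hu10 hvu1
  have hau1 : a ⬝ᵥ u1 = 0 := by rw [hu1, dotProduct_add, hau, dotProduct_smul, ha.1, smul_zero, add_zero]
  set P := a' ⬝ᵥ u
  set Q := b ⬝ᵥ v
  set Q1 := b1 ⬝ᵥ v
  have hz1 : ∀ l, InTr H v (l • a) → InTr H ((Q1 * l) • u1) a := fun l hl => by
    have hz : InTr H (l • v) a := inTr_swap' ha.1 hl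
    exact (shear hz hb1 hau1).congr (by rw [dotProduct_smul, smul_eq_mul, mul_comm]) rfl
  have h1 : P * Q1 ∈ rSub H v a := fun l hl => by
    refine InTr.swap ha.1 ((shear (hz1 l hl) ha' ha.1).congr ?_ rfl)
    rw [dotProduct_smul, hu1, dotProduct_add, dotProduct_smul, ha'.1, smul_zero, add_zero, smul_eq_mul]
    congr 1
    ring
  have h2 : P * Q1 * (Q * x) ∈ rSub H v a := fun l hl => by
    have h3 := shear (hz1 l hl) hb hau
    refine InTr.swap ha.1 ((shear h3 ha' ha.1).congr ?_ rfl)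
    simp only [dotProduct_smul, hu1, dotProduct_add, hb.1, zero_add, smul_eq_mul]
    congr 1
    ring
  refine ⟨Q * x, ?_, ?_⟩
  · have := (rSub H v a).mul_mem ((rSub H v a).inv_mem h1) h2
    rwa [← mul_assoc _ _ (Q * x), inv_mul_cancel₀ (mul_ne_zero hP hb1v), one_mul] at this
  · rw [← mul_assoc, inv_mul_cancel₀ hbv, one_mul, hw1, hu1]
    exact Submodule.smul_mem _ _ (Submodule.mem_span_singleton_self _)

/-- With every multiplier allowed the axis is full. -/
theorem full_axis (hu0 : u ≠ 0) (hR : rSub H v a = ⊤) {x : V₃} (hx : a ⬝ᵥ x = 0) : InTr H x a := by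
  have huv := (not_mem_span hv0 ha ha' ha0 hind hau hb hbv).resolve_right hu0
  have hvu : v ∉ Submodule.span F {u} := fun hm => hbv (by
    obtain ⟨t, rfl⟩ := Submodule.mem_span_singleton.mp hm
    rw [dotProduct_smul, hb.1, smul_zero])
  have hall : ∀ l : F, InTr H v (l • a) := fun l => by
    have h1 : l ∈ rSub H v a := hR ▸ Subfield.mem_top l
    have := h1 1 (by rwa [one_smul])
    rwa [mul_one] at this
  have hv : ∀ l : F, InTr H (l • v) a := fun l => inTr_swap' ha.1 (hall l)
  have hu : ∀ l : F, InTr H (l • u) a := fun l => by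
    refine (shear (hv (l * (b ⬝ᵥ v)⁻¹)) hb hau).congr ?_ rfl
    rw [dotProduct_smul, smul_eq_mul, mul_assoc, inv_mul_cancel₀ hbv, mul_one]
  have hle := span_pair_eq_plane ha0 hu0 hvu hau ha.1
  obtain ⟨s, t, rfl⟩ := Submodule.mem_span_pair.mp (hle.symm ▸ hx : x ∈ Submodule.span F ({u, v} : Set V₃))
  exact InTr.addCentre (hu s) (hv t)

/-- The lines through centres with two axes on an axis are few. -/
theorem card_lines_le (hu0 : u ≠ 0) (S : Finset V₃) (hS : ∀ w ∈ S, w ≠ 0 ∧ a ⬝ᵥ w = 0 ∧ Two H w) [DecidableEq (Submodule F V₃)] :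
    (S.image fun w => Submodule.span F ({w} : Set V₃)).card ≤ Nat.card (rSub H v a) + 1 := by
  classical
  refine (Finset.card_le_card (t := insert (Submodule.span F ({v} : Set V₃))
    ((Finset.univ.filter fun x : F => x ∈ rSub H v a).image fun x =>
      Submodule.span F ({u + ((b ⬝ᵥ v)⁻¹ * x) • v} : Set V₃))) ?_).trans ?_
  · intro L hL
    obtain ⟨w, hw, rfl⟩ := Finset.mem_image.mp hL
    obtain ⟨hw0, haw, hwT⟩ := hS w hw
    by_cases hwv : w ∈ Submodule.span F {v}
    · refine Finset.mem_insert.mpr (Or.inl ?_)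
      obtain ⟨t, rfl⟩ := Submodule.mem_span_singleton.mp hwv
      exact Submodule.span_singleton_smul_eq (IsUnit.mk0 t (fun e => hw0 (by rw [e, zero_smul]))) v
    · obtain ⟨x, hx, hm⟩ := param hv0 ha ha' ha0 hind hau hb hbv hu0 haw hwT hwv
      refine Finset.mem_insert.mpr (Or.inr (Finset.mem_image.mpr ⟨x, Finset.mem_filter.mpr ⟨Finset.mem_univ _, hx⟩, ?_⟩))
      obtain ⟨t, ht⟩ := Submodule.mem_span_singleton.mp hm
      rw [← ht, Submodule.span_singleton_smul_eq (IsUnit.mk0 t (fun e => hw0 (by rw [← ht, e, zero_smul])))]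
  · refine (Finset.card_insert_le _ _).trans (Nat.add_le_add_right (Finset.card_image_le.trans ?_) 1)
    rw [← Fintype.card_subtype, Nat.card_eq_fintype_card]

end

theorem sq_card_le {R : Subfield F} (hR : R ≠ ⊤) : Nat.card R * Nat.card R ≤ q := by
  have h1 := Module.natCard_eq_pow_finrank (K := R) (V := F)
  rw [Nat.card_eq_fintype_card] at h1
  have hd : Module.finrank R F ≠ 1 := fun e => hR (by
    refine top_unique fun x _ => ?_
    obtain ⟨c, hc⟩ := (finrank_eq_one_iff_of_nonzero' (1 : F) one_ne_zero).mp e x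
    rw [← hc, Subfield.smul_def, smul_eq_mul, mul_one]
    exact c.2)
  have hpos : 0 < Module.finrank R F := Module.finrank_pos
  rw [h1, ← sq]
  exact Nat.pow_le_pow_right Nat.card_pos (by omega)

theorem fullC_of_prime (hp : (Fintype.card F).Prime) {v a a' : V₃} (hv0 : v ≠ 0) (ha : InTr H v a)
    (ha' : InTr H v a') (ha0 : a ≠ 0) (hind : a' ∉ Submodule.span F {a}) : FullC H v := by
  haveI := Fact.mk hp
  haveI : CharP F q := charP_of_card_eq_prime rfl
  have hsurj : ∀ c : F, ∃ n : ℕ, (n : F) = c := fun c => by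
    refine ⟨((ZMod.ringEquiv F rfl).symm c).val, ?_⟩
    rw [← map_natCast (ZMod.ringEquiv F rfl), ZMod.natCast_zmod_val, RingEquiv.apply_symm_apply]
  have hn : ∀ (e : V₃), InTr H v e → ∀ c : F, InTr H v (c • e) := by
    intro e he c
    obtain ⟨n, rfl⟩ := hsurj c
    induction n with
    | zero => rw [Nat.cast_zero, zero_smul]; exact InTr.zero_right _
    | succ n ih => rw [Nat.cast_succ, add_smul, one_smul]; exact ih.add he
  intro e he
  have hli : LinearIndependent F ![a, a'] :=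
    (LinearIndependent.pair_iff' ha0).mpr fun t ht => hind (Submodule.mem_span_singleton.mpr ⟨t, ht⟩)
  have h2 := finrank_span_eq_card hli
  rw [Matrix.range_cons, Matrix.range_cons, Matrix.range_empty, Set.union_empty, Set.singleton_union,
    Fintype.card_fin] at h2
  have hle : Submodule.span F ({a, a'} : Set V₃) = planeOf v :=
    Submodule.eq_of_le_of_finrank_le (Submodule.span_le.mpr (by
      rintro z (rfl | rfl)
      · exact (dotProduct_comm _ _).trans ha.1
      · exact (dotProduct_comm _ _).trans ha'.1)) (by rw [finrank_planeOf hv0, h2])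
  obtain ⟨s, t, rfl⟩ := Submodule.mem_span_pair.mp
    (hle.symm ▸ ((dotProduct_comm _ _).trans he : v ⬝ᵥ e = 0) : e ∈ Submodule.span F ({a, a'} : Set V₃))
  exact (hn a ha s).add (hn a' ha' t)

end Cfsg.Agent.Lib.SLThree78.Singer
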