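import Cfsg.Agent.Lib.SLThree78.Singer.Planes
import Cfsg.Agent.Lib.SLThree78.Singer.Transv

/-!
A centre with two axes forces the special linear group, the case of sixteen elements reduced to three lines.
-/

set_option autoImplicit false
set_option linter.unusedSectionVars false

namespace Cfsg.Agent.Lib.SLThree78.Singer

open Matrix
open Cfsg.Agent.Lib.SubfieldMax (InTr)

variable {F : Type*} [Field F] [Fintype F] {K : Subalgebra F (Matrix (Fin 3) (Fin 3) F)}
  {H : Subgroup (GL (Fin 3) F)}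

local notation "V₃" => (Fin 3 → F)
local notation "M₃" => Matrix (Fin 3) (Fin 3) F
local notation "q" => Fintype.card F
local notation "SL₃F" => Cfsg.Geo.specialLinear (Fin 3) F

/-- The statement on the exceptional configuration for sixteen elements. -/
def SixteenStmt (K : Subalgebra F (Matrix (Fin 3) (Fin 3) F)) (H : Subgroup (GL (Fin 3) F)) : Prop :=
  ∀ (hK : Cfsg.Geo.IsFieldSubalgebra 3 K), q = 16 → ∀ v : Fin 3 → F, v ≠ 0 →
    (∀ g ∈ H, ∀ x, Same hK v x → Same hK v ((g : M₃) *ᵥ x)) →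
    ∀ W : Fin 3 → Submodule F (Fin 3 → F), (∀ i, Module.finrank F (W i) = 2) → (∀ i, v ∈ W i) →
      Function.Injective W → (∀ i, N hK (W i) v = 3) →
      (∀ g ∈ H, (g : M₃) *ᵥ v ∈ Submodule.span F {v} → ∀ i, ∃ j, ∀ x ∈ W i, (g : M₃) *ᵥ x ∈ W j) →
        H ≤ Cfsg.Geo.subalgebraNormalizer K

theorem small_cases (h30 : q < 30) (hnp : ¬ (q).Prime) : q = 4 ∨ q = 8 ∨ q = 9 ∨ q = 16 ∨ q = 25 ∨ q = 27 := by
  obtain ⟨p, hp, hpc⟩ : ∃ p, p.Prime ∧ CharP F p :=
    ⟨ringChar F, CharP.char_is_prime F _, ringChar.charP F⟩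
  obtain ⟨n, -, hn⟩ := FiniteField.card F p
  have hn2 : 2 ≤ (n : ℕ) := by
    by_contra h
    have : (n : ℕ) = 1 := by have := n.pos; omega
    rw [hn, this, pow_one] at hnp
    exact hnp hp
  have hp5 : p ≤ 5 := by
    by_contra h
    have := Nat.pow_le_pow_left (show 6 ≤ p by omega) 2
    have := Nat.pow_le_pow_right (show 0 < p by omega) hn2
    omega
  have hn4 : (n : ℕ) ≤ 4 := by
    by_contra h
    have := Nat.pow_le_pow_right (show 0 < p from hp.pos) (show 5 ≤ (n : ℕ) by omega)
    have := Nat.pow_le_pow_left hp.two_le 5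
    omega
  rw [hn] at h30 ⊢
  generalize (n : ℕ) = m at *
  have := hp.two_le
  interval_cases p <;> interval_cases m <;> revert hp h30 <;> norm_num

theorem axis_dichotomy (h : Over K H) (hq : 8 ≤ q) {v e : Fin 3 → F} (hv0 : v ≠ 0) (hv : Two H v)
    (he : InTr H v e) (he0 : e ≠ 0) :
    H = SL₃F ∨
      (Nat.card (rSub H v e) * Nat.card (rSub H v e) ≤ q ∧
        N h.isField (planeOf e) v ≤ Nat.card (rSub H v e) + 1 ∧
        ∀ S : Finset (Fin 3 → F), (∀ w ∈ S, w ≠ 0 ∧ e ⬝ᵥ w = 0 ∧ Two H w) →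
          ∀ [DecidableEq (Submodule F (Fin 3 → F))],
            (S.image fun w => Submodule.span F ({w} : Set (Fin 3 → F))).card ≤ Nat.card (rSub H v e) + 1) := by
  classical
  have hK := h.isField
  obtain ⟨a₁, a₂, h1, h2, h10, h21⟩ := hv
  obtain ⟨e', he', hind⟩ : ∃ e', InTr H v e' ∧ e' ∉ Submodule.span F {e} := by
    by_cases ha : a₁ ∈ Submodule.span F {e}
    · refine ⟨a₂, h2, fun hm => h21 ?_⟩
      obtain ⟨s, hs⟩ := Submodule.mem_span_singleton.mp ha
      obtain ⟨t, ht⟩ := Submodule.mem_span_singleton.mp hm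
      have hs0 : s ≠ 0 := fun e0 => h10 (by rw [← hs, e0, zero_smul])
      exact Submodule.mem_span_singleton.mpr ⟨t * s⁻¹, by
        rw [← hs, smul_smul, mul_assoc, inv_mul_cancel₀ hs0, mul_one, ht]⟩
    · exact ⟨a₁, h1, ha⟩
  obtain ⟨s, hs, hsind⟩ := exists_points hK (W := planeOf e) (z := v) (k := 2)
    (two_le_N hK (finrank_planeOf he0) hv0 (Or.inl hq))
  obtain ⟨u, hu, huv⟩ : ∃ u ∈ cl hK (planeOf e) v, u ∉ Submodule.span F {v} := by
    by_cases h0 : s 0 ∈ Submodule.span F {v}
    · refine ⟨s 1, hs 1, fun h1' => hsind 0 1 (by decide) ?_⟩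
      obtain ⟨t, ht⟩ := Submodule.mem_span_singleton.mp h0
      obtain ⟨r, hr⟩ := Submodule.mem_span_singleton.mp h1'
      have ht0 : t ≠ 0 := fun e0 => ((mem_cl hK).mp (hs 0)).2.1 (by rw [← ht, e0, zero_smul])
      exact Submodule.mem_span_singleton.mpr ⟨r * t⁻¹, by
        rw [← ht, smul_smul, mul_assoc, inv_mul_cancel₀ ht0, mul_one, hr]⟩
    · exact ⟨s 0, hs 0, h0⟩
  obtain ⟨huW, hu0, hus⟩ := (mem_cl hK).mp hu
  have hvu : v ∉ Submodule.span F {u} := fun hm => by
    obtain ⟨t, ht⟩ := Submodule.mem_span_singleton.mp hm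
    have ht0 : t ≠ 0 := fun e0 => hv0 (by rw [← ht, e0, zero_smul])
    exact huv (Submodule.mem_span_singleton.mpr ⟨t⁻¹, by rw [← ht, smul_smul, inv_mul_cancel₀ ht0, one_smul]⟩)
  have hvT : Two H v := ⟨a₁, a₂, h1, h2, h10, h21⟩
  obtain ⟨b, hb, hbv⟩ := (hvT.same h hus).off hu0 hvu
  by_cases hR : rSub H v e = ⊤
  · have hfull : FullC (H.map tinv.toMonoidHom) e := fun y hy =>
      InTr.dual (full_axis hv0 he he' he0 hind huW hb hbv hu0 hR ((dotProduct_comm _ _).trans hy))
    have hd := h.dual.eq_SL_of_fullC he0 hfull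
    refine Or.inl (le_antisymm h.le fun g hg => ?_)
    obtain ⟨g', hg', e1⟩ := hd.symm ▸ tinv_mem_SL hg
    exact tinv.injective e1 ▸ hg'
  · refine Or.inr ⟨sq_card_le hR, ?_, fun S hS inst => ?_⟩
    · rw [N]
      convert card_lines_le hv0 he he' he0 hind huW hb hbv hu0 (cl hK (planeOf e) v) fun w hw => ?_
      obtain ⟨hwW, hw0, hws⟩ := (mem_cl hK).mp hw
      exact ⟨hw0, hwW, hvT.same h hws⟩
    · convert card_lines_le hv0 he he' he0 hind huW hb hbv hu0 S hS

theorem two_axes_sixteen (h : Over K H) (hq : q = 16) (hsix : SixteenStmt K H) {v : Fin 3 → F} (hv0 : v ≠ 0)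
    (hv : Two H v) : H = SL₃F ∨ H ≤ Cfsg.Geo.subalgebraNormalizer K := by
  classical
  by_cases hSL : H = SL₃F
  · exact Or.inl hSL
  refine Or.inr ?_
  have hK := h.isField
  have hax : ∀ e : V₃, InTr H v e → e ≠ 0 → N hK (planeOf e) v = 3 := by
    intro e he he0
    obtain ⟨hr, hN, -⟩ := (axis_dichotomy h (by omega) hv0 hv he he0).resolve_left hSL
    have h4 : Nat.card (rSub H v e) ≤ 4 := by nlinarith
    rcases N_sixteen hK (finrank_planeOf he0) hv0 hq with h3 | h3 | h3 <;> omega
  obtain ⟨a, a', ha, ha', ha0, hind⟩ := id hv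
  have hne : ∀ μ : F, a' + μ • a ≠ 0 := fun μ e =>
    hind (Submodule.mem_span_singleton.mpr ⟨-μ, by rw [neg_smul]; exact (eq_neg_of_add_eq_zero_left e).symm⟩)
  have hplane : ∀ x y : V₃, x ≠ 0 → planeOf x = planeOf y → y ∈ Submodule.span F {x} := fun x y hx e =>
    mem_span_of_plane hx fun z hz => (e ▸ hz : z ∈ planeOf y)
  -- every axis gives one of at most three lines
  have hthree := fun (P : Finset (Submodule F V₃))
      (hP : ∀ W ∈ P, ∃ e, InTr H v e ∧ e ≠ 0 ∧ W = planeOf e) =>
    three_planes hK hq hv0 ha.1 ha'.1 ha0 hind P fun W hW => by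
      obtain ⟨e, he, he0, rfl⟩ := hP W hW
      exact ⟨he.1, finrank_planeOf he0, hax e he he0⟩
  obtain ⟨hr, -, hlines⟩ := (axis_dichotomy h (by omega) hv0 hv ha ha0).resolve_left hSL
  have hr2 : Nat.card (rSub H v a) ≤ 2 := by
    have := hthree (insert (planeOf a) ((Finset.univ.filter fun μ : F => μ ∈ rSub H v a).image fun μ =>
        planeOf (a' + μ • a))) (by
      intro W hW
      rcases Finset.mem_insert.mp hW with rfl | hW
      · exact ⟨a, ha, ha0, rfl⟩
      · obtain ⟨μ, hμ, rfl⟩ := Finset.mem_image.mp hW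
        refine ⟨a' + μ • a, ha'.add ?_, hne μ, rfl⟩
        have := (Finset.mem_filter.mp hμ).2 1 (by rwa [one_smul])
        rwa [mul_one] at this)
    rw [Finset.card_insert_of_notMem (fun hm => by
        obtain ⟨μ, -, e⟩ := Finset.mem_image.mp hm
        obtain ⟨t, ht⟩ := Submodule.mem_span_singleton.mp (hplane _ _ ha0 e.symm)
        exact hind (Submodule.mem_span_singleton.mpr ⟨t - μ, by rw [sub_smul, ht, add_sub_cancel_right]⟩)),
      Finset.card_image_of_injOn (fun μ _ μ' _ e => by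
        obtain ⟨t, ht⟩ := Submodule.mem_span_singleton.mp (hplane _ _ (hne μ) e)
        rw [smul_add, smul_smul] at ht
        by_cases ht1 : t = 1
        · subst ht1
          rw [one_smul, one_mul, add_right_inj] at ht
          exact smul_left_injective F ha0 ht
        · exfalso
          refine hind (Submodule.mem_span_singleton.mpr ⟨(μ' - t * μ) / (t - 1), ?_⟩)
          have h1 : (t - 1) • a' = (μ' - t * μ) • a := by linear_combination (norm := module) ht
          rw [div_eq_inv_mul, ← smul_smul, ← h1, smul_smul, inv_mul_cancel₀ (sub_ne_zero.mpr ht1), one_smul]),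
      ← Fintype.card_subtype, ← Nat.card_eq_fintype_card] at this
    change Nat.card (rSub H v a) + 1 ≤ 3 at this
    omega
  let ax : Fin 3 → V₃ := ![a, a', a' + a]
  have haxT : ∀ j, InTr H v (ax j) := fun j => match j with
    | 0 => ha
    | 1 => ha'
    | 2 => ha'.add ha
  have ha'0 : a' ≠ 0 := fun e => hind (e.symm ▸ Submodule.zero_mem _)
  have hs0 : a' + a ≠ 0 := by simpa using hne 1
  have hax0 : ∀ j, ax j ≠ 0 := fun j => match j with
    | 0 => ha0
    | 1 => ha'0
    | 2 => hs0
  have d1 : planeOf a ≠ planeOf a' := fun e => hind (hplane _ _ ha0 e)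
  have d2 : planeOf a ≠ planeOf (a' + a) := fun e => by
    obtain ⟨t, ht⟩ := Submodule.mem_span_singleton.mp (hplane _ _ ha0 e)
    exact hind (Submodule.mem_span_singleton.mpr ⟨t - 1, by rw [sub_smul, ht, one_smul, add_sub_cancel_right]⟩)
  have d3 : planeOf a' ≠ planeOf (a' + a) := fun e => by
    obtain ⟨t, ht⟩ := Submodule.mem_span_singleton.mp (hplane _ _ ha'0 e)
    by_cases ht1 : t = 1
    · subst ht1; rw [one_smul, left_eq_add] at ht; exact ha0 ht
    · refine hind (Submodule.mem_span_singleton.mpr ⟨(t - 1)⁻¹, ?_⟩)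
      have h2 : (t - 1) • a' = a := by linear_combination (norm := module) ht
      rw [← h2, smul_smul, inv_mul_cancel₀ (sub_ne_zero.mpr ht1), one_smul]
  have hinj : Function.Injective fun j => planeOf (ax j) := fun j k hjk => match j, k, hjk with
    | 0, 0, _ | 1, 1, _ | 2, 2, _ => rfl
    | 0, 1, e => absurd e d1
    | 1, 0, e => absurd e.symm d1
    | 0, 2, e => absurd e d2
    | 2, 0, e => absurd e.symm d2
    | 1, 2, e => absurd e d3
    | 2, 1, e => absurd e.symm d3
  refine hsix hK hq v hv0 (fun g hg x hx => ?_) (fun j => planeOf (ax j)) (fun i => finrank_planeOf (hax0 i))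
    (fun i => (haxT i).1) hinj (fun i => hax (ax i) (haxT i) (hax0 i)) ?_
  · -- the orbit is the class
    have hx0 : x ≠ 0 := fun e => not_zero_same hK hv0 (e ▸ hx)
    set y := (g : M₃) *ᵥ x
    have hy0 : y ≠ 0 := fun e => hx0 (by rw [← LinearFrame.inv_mulVec_mulVec g x]; show _ *ᵥ y = 0; rw [e, mulVec_zero])
    have hy : Two H y := (hv.same h hx).conj hg
    by_contra hns
    have hN3 : 1 ≤ N hK (planeOf a) y := by
      rcases N_sixteen hK (finrank_planeOf ha0) hy0 hq with h3 | h3 | h3 <;> omega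
    obtain ⟨y', hy'W, hy'0, hy's⟩ := exists_translate h hN3
    have hy'T : Two H y' := hy.same h hy's
    have hc := hlines (cl hK (planeOf a) v ∪ {y'}) (by
      intro w hw
      rcases Finset.mem_union.mp hw with hw | hw
      · obtain ⟨hwW, hw0, hws⟩ := (mem_cl hK).mp hw
        exact ⟨hw0, hwW, hv.same h hws⟩
      · rw [Finset.mem_singleton.mp hw]; exact ⟨hy'0, hy'W, hy'T⟩)
    rw [Finset.image_union, Finset.image_singleton, Finset.card_union_of_disjoint (by
      rw [Finset.disjoint_singleton_right, Finset.mem_image]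
      rintro ⟨w, hw, e⟩
      obtain ⟨-, hw0, hws⟩ := (mem_cl hK).mp hw
      obtain ⟨t, ht⟩ := Submodule.mem_span_singleton.mp (e.symm ▸ Submodule.mem_span_singleton_self w :
        w ∈ Submodule.span F ({y'} : Set V₃))
      have ht0 : t ≠ 0 := fun e0 => hw0 (by rw [← ht, e0, zero_smul])
      exact hns (hws.trans hK (((ht ▸ (Same.smul hK (z := y') ht0)) : Same hK y' w).symm hK) |>.trans hK
        (hy's.symm hK))), Finset.card_singleton] at hc
    have h3 : N hK (planeOf a) v = 3 := hax a ha ha0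
    have h3' : ((cl hK (planeOf a) v).image fun w => Submodule.span F ({w} : Set V₃)).card = 3 := by
      rw [N] at h3; convert h3
    omega
  · intro g hg hgv i
    obtain ⟨t, ht⟩ := Submodule.mem_span_singleton.mp hgv
    have ht0 : t ≠ 0 := fun e => hv0 (by
      rw [← LinearFrame.inv_mulVec_mulVec g v, ← ht, e, zero_smul, mulVec_zero])
    set e' := t • (ax i ᵥ* ((g⁻¹ : GL (Fin 3) F) : M₃)) with he'
    have he'T : InTr H v e' := by
      have h1 := InTr.scale (c := t⁻¹) (d := t) (inv_mul_cancel₀ ht0) ((haxT i).conj hg)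
      rwa [← ht, smul_smul, inv_mul_cancel₀ ht0, one_smul] at h1
    have he'0 : e' ≠ 0 := by
      refine smul_ne_zero ht0 fun e0 => hax0 i ?_
      have := congrArg (· ᵥ* (g : M₃)) e0
      simpa [vecMul_vecMul, Units.inv_mul] using this
    obtain ⟨j, hj⟩ : ∃ j, planeOf e' = planeOf (ax j) := by
      by_contra hno
      push Not at hno
      have h4 := hthree (insert (planeOf e') (Finset.univ.image fun j => planeOf (ax j))) (by
        intro W hW
        rcases Finset.mem_insert.mp hW with rfl | hW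
        · exact ⟨e', he'T, he'0, rfl⟩
        · obtain ⟨j, -, rfl⟩ := Finset.mem_image.mp hW
          exact ⟨ax j, haxT j, hax0 j, rfl⟩)
      rw [Finset.card_insert_of_notMem (fun hm => by
        obtain ⟨j, -, e⟩ := Finset.mem_image.mp hm; exact hno j e.symm),
        Finset.card_image_of_injective _ hinj, Finset.card_univ, Fintype.card_fin] at h4
      omega
    refine ⟨j, fun x hx => ?_⟩
    rw [← hj, mem_planeOf, he', smul_dotProduct, ← dotProduct_mulVec, LinearFrame.inv_mulVec_mulVec,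
      mem_planeOf.mp hx, smul_zero]

theorem two_axes (h : Over K H) (hq4 : q ≠ 4) (hsix : SixteenStmt K H) {v : Fin 3 → F} (hv0 : v ≠ 0)
    (hv : Two H v) : H = SL₃F ∨ H ≤ Cfsg.Geo.subalgebraNormalizer K := by
  obtain ⟨a, a', ha, ha', ha0, hind⟩ := id hv
  by_cases hp : (q).Prime
  · exact Or.inl (h.eq_SL_of_fullC hv0 (fullC_of_prime hp hv0 ha ha' ha0 hind))
  by_cases h16 : q = 16
  · exact two_axes_sixteen h h16 hsix hv0 hv
  have h8 : 8 ≤ q := by
    by_contra h
    have := small_cases (by omega) hp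
    omega
  rcases axis_dichotomy h h8 hv0 hv ha ha0 with hSL | ⟨hr, hN, -⟩
  · exact Or.inl hSL
  exfalso
  have hW := finrank_planeOf ha0
  generalize Nat.card (rSub H v a) = r at hr hN
  rcases Nat.lt_or_ge q 30 with h30 | h30
  · rcases small_cases h30 hp with e | e | e | e | e | e <;> rw [e] at hr
    · omega
    · rw [N_all h.isField hW (all_same h.isField (by omega)) hv0] at hN; nlinarith
    · rw [N_all h.isField hW (all_same h.isField (by omega)) hv0] at hN; nlinarith
    · omega
    · have := N_twentyfive h.isField hW hv0 e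
      nlinarith
    · rw [N_all h.isField hW (all_same h.isField (by omega)) hv0] at hN; nlinarith
  · have := big_N h.isField hW hv0 h30 hr
    omega

end Cfsg.Agent.Lib.SLThree78.Singer
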